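import Groth.Agent.MonoFactor.Basic
import Groth.Agent.FppfSource.Scheme
import Groth.Agent.ShfQuot.Group
import Groth.Agent.LimDesc.FPCancel
import Groth.Prelude.Def_RedSub
import Mathlib

/-!
Quotients of group schemes by flat stabilisers and flat kernels.
-/

set_option autoImplicit false
set_option linter.style.haveILetI false
set_option backward.isDefEq.respectTransparency false
set_option backward.isDefEq.respectTransparency.types false

universe u

open CategoryTheory CategoryTheory.Limits AlgebraicGeometry MonoidalCategory CartesianMonoidalCategory MonObj GrpObj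

noncomputable section

namespace Groth.Agent.MonoFactor

variable {S : Scheme.{u}}

/-- factorisation of a morphism of `S`-schemes with a flat locally finitely presented kernel pair -/
theorem exists_factor_over {G X H : Over S} [LocallyOfFinitePresentation G.hom] (f : G ⟶ X)
    [LocallyOfFiniteType f.left] [Flat H.hom] [LocallyOfFinitePresentation H.hom] {r : G ⊗ H ⟶ G}
    (hr : IsPullback (fst G H) r f f) :
    ∃ (Q : Over S) (q : G ⟶ Q) (m : Q ⟶ X), Surjective q.left ∧ Flat q.left ∧
      LocallyOfFinitePresentation q.left ∧ LocallyOfFinitePresentation Q.hom ∧ Mono m ∧ q ≫ m = f ∧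
        IsPullback (fst G H) r q q := by
  have h1 : IsPullback (fst G H).left r.left f.left f.left := hr.map (Over.forget S)
  haveI hfl : Flat (fst G H).left := by
    change Flat (pullback.fst G.hom H.hom)
    infer_instance
  haveI hfp : LocallyOfFinitePresentation (fst G H).left := by
    change LocallyOfFinitePresentation (pullback.fst G.hom H.hom)
    infer_instance
  have e := h1.isoPullback_inv_fst
  obtain ⟨X', f', f'', hs, hf, hp, hm, hfac⟩ := exists_factor' f.left (by rw [← e]; infer_instance)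
    (by rw [← e]; infer_instance)
  haveI := hs; haveI := hf; haveI := hp; haveI := hm
  let Q : Over S := Over.mk (f'' ≫ X.hom)
  let q : G ⟶ Q := Over.homMk f' (by
    change f' ≫ f'' ≫ X.hom = G.hom
    rw [reassoc_of% hfac]
    exact Over.w f)
  let m : Q ⟶ X := Over.homMk f'' rfl
  haveI : Mono m.left := hm
  haveI : Mono m := Over.mono_of_mono_left m
  haveI : LocallyOfFinitePresentation (f' ≫ Q.hom) := by
    rw [show f' ≫ Q.hom = G.hom from Over.w q]
    infer_instance
  have hqm : q ≫ m = f := Over.OverMorphism.ext hfac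
  refine ⟨Q, q, m, hs, hf, hp, FppfSource.lfp f' Q.hom, inferInstance, hqm, ?_⟩
  exact IsPullback.of_isLimit' ⟨(cancel_mono m).1 (by simp only [Category.assoc, hqm]; exact hr.w)⟩
    (PullbackCone.IsLimit.mk _
    (fun c => hr.lift c.fst c.snd (by rw [← hqm, reassoc_of% c.condition]))
    (fun c => hr.lift_fst _ _ _) (fun c => hr.lift_snd _ _ _)
    (fun c k hk₁ hk₂ => hr.hom_ext (hk₁.trans (hr.lift_fst _ _ _).symm) (hk₂.trans (hr.lift_snd _ _ _).symm)))

section Orbit

variable {G X : Over S} [GrpObj G] (a : AlgGrp.Action G X)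

theorem one_smul' {T : Over S} (p : T ⟶ X) : lift (1 : T ⟶ G) p ≫ a.act = p := by
  have h := lift (toUnit T) p ≫= a.one_act
  rw [← Category.assoc] at h
  rw [Hom.one_def]
  convert h using 1
  · congr 1; ext <;> simp
  · simp

theorem mul_smul' {T : Over S} (g g' : T ⟶ G) (p : T ⟶ X) :
    lift (g * g') p ≫ a.act = lift g (lift g' p ≫ a.act) ≫ a.act := by
  have h := lift (lift g g') p ≫= a.mul_act
  rw [← Category.assoc, ← Category.assoc] at h
  rw [Hom.mul_def]
  convert h using 1
  · congr 1; ext <;> simp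
  · simp

theorem comp_orbitMap {T : Over S} (g : T ⟶ G) (ξ : 𝟙_ (Over S) ⟶ X) :
    g ≫ a.orbitMap ξ = lift g (toUnit T ≫ ξ) ≫ a.act := by
  rw [AlgGrp.Action.orbitMap, ← Category.assoc]
  congr 1
  ext <;> simp

theorem isPullback_orbit {H : Over S} (ξ : 𝟙_ (Over S) ⟶ X) {h : H ⟶ G}
    (hH : IsPullback h (toUnit H) (a.orbitMap ξ) ξ) :
    IsPullback (fst G H) ((G ◁ h) ≫ μ[G]) (a.orbitMap ξ) (a.orbitMap ξ) := by
  have hfix : ∀ {T : Over S} (n : T ⟶ H), lift (n ≫ h) (toUnit T ≫ ξ) ≫ a.act = toUnit T ≫ ξ := by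
    intro T n
    rw [← comp_orbitMap, Category.assoc, hH.w, ← Category.assoc]
    congr 1
    exact toUnit_unique _ _
  haveI : Mono h := ⟨fun {T} x y e => hH.hom_ext e (toUnit_unique _ _)⟩
  have hinv : ∀ {T : Over S} (g g' : T ⟶ G), g ≫ a.orbitMap ξ = g' ≫ a.orbitMap ξ →
      (g⁻¹ * g') ≫ a.orbitMap ξ = toUnit T ≫ ξ := by
    intro T g g' e
    rw [comp_orbitMap, mul_smul', ← comp_orbitMap, ← e, comp_orbitMap, ← mul_smul', inv_mul_cancel, one_smul']
  refine IsPullback.of_isLimit' ⟨?_⟩ (PullbackCone.IsLimit.mk _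
    (fun c => lift c.fst (hH.lift (c.fst⁻¹ * c.snd) (toUnit _) (hinv _ _ c.condition)))
    (fun c => lift_fst _ _) (fun c => ?_) (fun c m hm₁ hm₂ => ?_))
  · have e : (G ◁ h) ≫ μ[G] = fst G H * (snd G H ≫ h) := by
      rw [← Category.id_comp ((G ◁ h) ≫ μ[G]), ShfQuot.act_apply, Category.id_comp, Category.id_comp]
    rw [e, comp_orbitMap, comp_orbitMap, mul_smul', hfix]
  · rw [ShfQuot.lift_act, hH.lift_fst, mul_inv_cancel_left]
  · apply CartesianMonoidalCategory.hom_ext
    · rw [hm₁, lift_fst]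
    · rw [lift_snd, ← cancel_mono h, hH.lift_fst, ← hm₂, ShfQuot.act_apply, hm₁, inv_mul_cancel_left]

/-- the orbit map factors through the quotient by a flat stabiliser -/
theorem exists_quotient_stabilizer [LocallyOfFinitePresentation G.hom] {H : Over S} (ξ : 𝟙_ (Over S) ⟶ X)
    (h : H ⟶ G) (hH : IsPullback h (toUnit H) (a.orbitMap ξ) ξ) [Flat H.hom]
    (hX : LocallyOfFiniteType X.hom ∨ IsLocallyNoetherian S) :
    ∃ (Q : Over S) (q : G ⟶ Q) (m : Q ⟶ X), Surjective q.left ∧ Flat q.left ∧
      LocallyOfFinitePresentation q.left ∧ LocallyOfFinitePresentation Q.hom ∧ Mono m ∧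
        q ≫ m = a.orbitMap ξ ∧ IsPullback (fst G H) ((G ◁ h) ≫ μ[G]) q q := by
  let f := a.orbitMap ξ
  haveI : LocallyOfFiniteType (f.left ≫ X.hom) := by rw [Over.w f]; infer_instance
  haveI : LocallyOfFiniteType f.left := locallyOfFiniteType_of_comp f.left X.hom
  have h1 : IsPullback h.left (toUnit H).left f.left ξ.left := hH.map (Over.forget S)
  have e : (toUnit H).left = H.hom := by
    have := Over.w (toUnit H)
    simpa using this
  haveI : LocallyOfFinitePresentation H.hom := by
    rcases hX with hX | hX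
    · haveI : LocallyOfFinitePresentation (f.left ≫ X.hom) := by rw [Over.w f]; infer_instance
      haveI := hX
      haveI : LocallyOfFinitePresentation f.left := LimDesc.lfp_of_comp f.left X.hom
      rw [← e]
      exact MorphismProperty.of_isPullback (P := @LocallyOfFinitePresentation) h1 inferInstance
    · haveI := hX
      haveI : LocallyOfFiniteType H.hom := by
        rw [← e]
        exact MorphismProperty.of_isPullback (P := @LocallyOfFiniteType) h1 inferInstance
      infer_instance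
  exact exists_factor_over f (isPullback_orbit a ξ hH)

end Orbit

section Kernel

variable {G H : Over S} [GrpObj G] [GrpObj H] (u : G ⟶ H) [IsMonHom u]

/-- translation action through a homomorphism -/
def translation : AlgGrp.Action G H where
  act := (u ▷ H) ≫ μ[H]
  one_act := by
    rw [← comp_whiskerRight_assoc, IsMonHom.one_hom, MonObj.one_mul]
  mul_act := by
    have key : ∀ {T : Over S} (w : T ⟶ G ⊗ H),
        w ≫ (u ▷ H) ≫ μ[H] = ((w ≫ fst G H) ≫ u) * (w ≫ snd G H) := by
      intro T w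
      rw [Hom.mul_def, ← Category.assoc]
      congr 1
      ext <;> simp
    have hμ : (μ[G] ▷ H) ≫ fst G H = (fst (G ⊗ G) H ≫ fst G G) * (fst (G ⊗ G) H ≫ snd G G) := by
      rw [whiskerRight_fst, ← MonObj.comp_mul, Hom.mul_def, lift_fst_snd, Category.id_comp]
    have h₁ : (α_ G G H).hom ≫ (G ◁ ((u ▷ H) ≫ μ[H])) ≫ snd G H =
        (((α_ G G H).hom ≫ snd G (G ⊗ H)) ≫ fst G H) ≫ u * (((α_ G G H).hom ≫ snd G (G ⊗ H)) ≫ snd G H) := by
      rw [whiskerLeft_snd, ← Category.assoc (α_ G G H).hom, key]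
    rw [key, hμ, MonObj.mul_comp, ← Category.assoc (α_ G G H).hom, key]
    simp only [Category.assoc] at h₁ ⊢
    rw [h₁]
    simp only [whiskerLeft_fst_assoc, associator_hom_fst_assoc, associator_hom_snd_fst_assoc,
      associator_hom_snd_snd, whiskerRight_snd, _root_.mul_assoc]

theorem translation_orbitMap : (translation u).orbitMap η[H] = u := by
  rw [AlgGrp.Action.orbitMap]
  show lift (𝟙 G) (toUnit G ≫ η[H]) ≫ (u ▷ H) ≫ μ[H] = u
  rw [← Hom.one_def, ← Category.assoc,
    show lift (𝟙 G) (1 : G ⟶ H) ≫ (u ▷ H) = lift u 1 by ext <;> simp, ← Hom.mul_def, _root_.mul_one]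

/-- the quotient by a flat kernel is a group scheme -/
theorem exists_quotient_kernel [LocallyOfFinitePresentation G.hom]
    (hH : LocallyOfFiniteType H.hom ∨ IsLocallyNoetherian S) {K : Over S}
    (k : K ⟶ G) (hK : AlgGrp.IsKernel k u) [Flat K.hom] :
    ∃ (Q : Over S) (_ : GrpObj Q) (q : G ⟶ Q) (_ : IsMonHom q) (m : Q ⟶ H) (_ : IsMonHom m),
      Surjective q.left ∧ Flat q.left ∧ LocallyOfFinitePresentation q.left ∧
        LocallyOfFinitePresentation Q.hom ∧ Mono m ∧ q ≫ m = u ∧
          IsPullback (fst G K) ((G ◁ k) ≫ μ[G]) q q := by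
  obtain ⟨Q, q, m, hs, hf, hp, hQ, hm, hqm, hsq⟩ := exists_quotient_stabilizer (translation u) η[H] k
    (by rw [translation_orbitMap]; exact hK) hH
  rw [translation_orbitMap] at hqm
  haveI := hs; haveI := hf; haveI := hp; haveI := hm
  have hdesc : ∀ {W' W : Over S} (c : W' ⟶ W) [Flat c.left] [Surjective c.left]
      [LocallyOfFinitePresentation c.left] (l : W ⟶ H) (z : W' ⟶ Q), z ≫ m = c ≫ l →
      ∃ z' : W ⟶ Q, z' ≫ m = l := by
    intro W' W c _ _ _ l z e
    have hz : ∀ {Z : Scheme.{u}} (p r : Z ⟶ W'.left), p ≫ c.left = r ≫ c.left → p ≫ z.left = r ≫ z.left := by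
      intro Z p r hpr
      have hw : r ≫ W'.hom = p ≫ W'.hom := by
        rw [← Over.w c, reassoc_of% hpr]
      let Z' : Over S := Over.mk (p ≫ W'.hom)
      let p' : Z' ⟶ W' := Over.homMk p rfl
      let r' : Z' ⟶ W' := Over.homMk r hw
      have hpr' : p' ≫ c = r' ≫ c := Over.OverMorphism.ext hpr
      have : p' ≫ z = r' ≫ z := (cancel_mono m).1 (by rw [Category.assoc, Category.assoc, e, reassoc_of% hpr'])
      exact congrArg (fun t => t.left) this
    let d : W.left ⟶ Q.left := EffectiveEpi.desc c.left z.left hz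
    have hd : c.left ≫ d = z.left := EffectiveEpi.fac _ _ _
    let z' : W ⟶ Q := Over.homMk d (by
      rw [← cancel_epi c.left, reassoc_of% hd]
      exact (Over.w z).trans (Over.w c).symm)
    refine ⟨z', Over.OverMorphism.ext ?_⟩
    rw [← cancel_epi c.left, Over.comp_left]
    show c.left ≫ d ≫ m.left = c.left ≫ l.left
    rw [reassoc_of% hd, ← Over.comp_left, e, Over.comp_left]
  have hlift : ∀ {W : Over S} (z : W ⟶ Q), ∃ (W' : Over S) (c : W' ⟶ W) (g : W' ⟶ G),
      Flat c.left ∧ Surjective c.left ∧ LocallyOfFinitePresentation c.left ∧ g ≫ u = c ≫ z ≫ m := by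
    intro W z
    let W' : Over S := Over.mk (pullback.fst z.left q.left ≫ W.hom)
    let c : W' ⟶ W := Over.homMk (pullback.fst z.left q.left) rfl
    let g : W' ⟶ G := Over.homMk (pullback.snd z.left q.left) (by
      show pullback.snd z.left q.left ≫ G.hom = pullback.fst z.left q.left ≫ W.hom
      rw [← Over.w q, ← Over.w z, pullback.condition_assoc])
    have hgq : g ≫ q = c ≫ z := Over.OverMorphism.ext pullback.condition.symm
    refine ⟨W', c, g, inferInstanceAs (Flat (pullback.fst z.left q.left)),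
      inferInstanceAs (Surjective (pullback.fst z.left q.left)),
      inferInstanceAs (LocallyOfFinitePresentation (pullback.fst z.left q.left)), ?_⟩
    rw [← hqm, reassoc_of% hgq]
  obtain ⟨str, hm'⟩ := ShfQuot.exists_grpObj m ⟨η[G] ≫ q, by
      rw [Category.assoc, hqm, IsMonHom.one_hom, Hom.one_def, toUnit_unique (toUnit (𝟙_ (Over S))) (𝟙 _),
        Category.id_comp]⟩
    (by
      rintro W _ _ ⟨z₁, rfl⟩ ⟨z₂, rfl⟩
      obtain ⟨W₁, c₁, g₁, _, _, _, e₁⟩ := hlift z₁
      obtain ⟨W₂, c₂, g₂, _, _, _, e₂⟩ := hlift (c₁ ≫ z₂)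
      haveI : Flat (c₂ ≫ c₁).left := by rw [Over.comp_left]; infer_instance
      haveI : Surjective (c₂ ≫ c₁).left := by rw [Over.comp_left]; infer_instance
      haveI : LocallyOfFinitePresentation (c₂ ≫ c₁).left := by rw [Over.comp_left]; infer_instance
      refine hdesc (c₂ ≫ c₁) _ (((c₂ ≫ g₁) * g₂) ≫ q) ?_
      rw [Category.assoc, hqm, MonObj.mul_comp, Category.assoc, e₁, e₂, MonObj.comp_mul]
      simp only [Category.assoc])
    (by
      rintro W _ ⟨z, rfl⟩
      obtain ⟨W₁, c₁, g₁, _, _, _, e₁⟩ := hlift z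
      refine hdesc c₁ _ (g₁⁻¹ ≫ q) ?_
      rw [Category.assoc, hqm, GrpObj.inv_comp, e₁, GrpObj.comp_inv])
  letI := str
  haveI := hm'
  haveI : IsMonHom q := {
    one_hom := by
      rw [← cancel_mono m, Category.assoc, hqm, IsMonHom.one_hom, IsMonHom.one_hom]
    mul_hom := by
      rw [← cancel_mono m, Category.assoc, hqm, IsMonHom.mul_hom, Category.assoc, IsMonHom.mul_hom,
        tensorHom_comp_tensorHom_assoc, hqm] }
  exact ⟨Q, str, q, inferInstance, m, hm', hs, hf, hp, hQ, hm, hqm, hsq⟩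

/-- the kernel of the quotient map -/
theorem isKernel_of_comp {Q K : Over S} [GrpObj Q] (k : K ⟶ G) (q : G ⟶ Q) (m : Q ⟶ H) [IsMonHom m] [Mono m]
    (hqm : q ≫ m = u) (hK : AlgGrp.IsKernel k u) : AlgGrp.IsKernel k q := by
  have hw : (k ≫ q) ≫ m = (toUnit K ≫ η[Q]) ≫ m := by
    rw [Category.assoc, hqm, Category.assoc, IsMonHom.one_hom]
    exact hK.w
  refine IsPullback.of_isLimit' ⟨(cancel_mono m).1 hw⟩ (PullbackCone.IsLimit.mk _
    (fun c => IsPullback.lift hK c.fst c.snd (by
      rw [← hqm, reassoc_of% c.condition, IsMonHom.one_hom]))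
    (fun c => hK.lift_fst _ _ _) (fun c => hK.lift_snd _ _ _)
    (fun c l hl₁ hl₂ => hK.hom_ext (hl₁.trans (hK.lift_fst _ _ _).symm) (hl₂.trans (hK.lift_snd _ _ _).symm)))

end Kernel

end Groth.Agent.MonoFactor
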