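import Groth.Agent.MonoFactor.HomQuot
import Groth.Agent.GrpComp.HomogTop
import Groth.Agent.GrpField.Dimension
import Groth.Agent.LocalDimBC.Scheme
import Groth.Agent.LocalDimBC.Comp
import Groth.Agent.SpRelDim.LocalDim
import Groth.Agent.CMChart.OverField
import Groth.Agent.ThickLib.Basic
import Groth.Agent.Assoc.Kernel
import Groth.Agent.LocNoethTop.Basic
import Mathlib

/-!
The components of the quotient of a group scheme by a flat subgroup scheme.
-/

set_option autoImplicit false
set_option linter.style.haveILetI false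
set_option backward.isDefEq.respectTransparency false
set_option backward.isDefEq.respectTransparency.types false

universe u

open CategoryTheory CategoryTheory.Limits AlgebraicGeometry MonoidalCategory CartesianMonoidalCategory MonObj GrpObj

noncomputable section

namespace Groth.Agent.MonoFactor

theorem isPullback_whiskerLeft' {B : Scheme.{u}} (W : Over B) {G X : Over B} (q : G ⟶ X) :
    IsPullback (snd W G) (W ◁ q) q (snd W X) :=
  ⟨⟨(whiskerLeft_snd W q).symm⟩, ⟨PullbackCone.IsLimit.mk _
    (fun c => lift (c.snd ≫ fst W X) c.fst) (fun c => lift_snd _ _)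
    (fun c => by
      apply CartesianMonoidalCategory.hom_ext
      · rw [Category.assoc, whiskerLeft_fst, lift_fst]
      · rw [Category.assoc, whiskerLeft_snd, lift_snd_assoc]
        exact c.condition)
    (fun c m h₁ h₂ => by
      apply CartesianMonoidalCategory.hom_ext
      · rw [lift_fst, ← h₂, Category.assoc, whiskerLeft_fst]
      · rw [lift_snd]; exact h₁)⟩⟩

theorem cover_whiskerLeft {B : Scheme.{u}} (W : Over B) {G X : Over B} (q : G ⟶ X) [Surjective q.left]
    [Flat q.left] [LocallyOfFinitePresentation q.left] :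
    Surjective (W ◁ q).left ∧ Flat (W ◁ q).left ∧ LocallyOfFinitePresentation (W ◁ q).left :=
  have h := (isPullback_whiskerLeft' W q).map (Over.forget B)
  ⟨MorphismProperty.of_isPullback (P := @Surjective) h ‹Surjective q.left›,
    MorphismProperty.of_isPullback (P := @Flat) h ‹Flat q.left›,
    MorphismProperty.of_isPullback (P := @LocallyOfFinitePresentation) h ‹LocallyOfFinitePresentation q.left›⟩

theorem epi_of_cover {B : Scheme.{u}} {U V : Over B} (g : U ⟶ V)
    (h : Surjective g.left ∧ Flat g.left ∧ LocallyOfFinitePresentation g.left) : Epi g := by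
  haveI := h.1; haveI := h.2.1; haveI := h.2.2
  exact ⟨fun a b e => Over.OverMorphism.ext
    ((cancel_epi g.left).1 (congrArg CommaMorphism.left e))⟩

/-- the quotient by a subgroup acting on the left carries an action of the group -/
theorem exists_homogeneous_action {B : Scheme.{u}} {F G X : Over B} [GrpObj F] [GrpObj G] (u : F ⟶ G)
    [IsMonHom u] (q : G ⟶ X) [Surjective q.left] [Flat q.left] [LocallyOfFinitePresentation q.left]
    (h : IsPullback ((u ▷ G) ≫ μ[G]) (snd F G) q q) :
    ∃ a : AlgGrp.Action G X, Surjective (lift a.act (snd G X)).left ∧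
      ∀ {T : Over B} (g g' : T ⟶ G), lift g (g' ≫ q) ≫ a.act = (g' * g⁻¹) ≫ q := by
  let m₀ : G ⊗ G ⟶ G := snd G G * (fst G G)⁻¹
  obtain ⟨hs, hf, hp⟩ := cover_whiskerLeft G q
  haveI := epi_of_cover _ ⟨hs, hf, hp⟩
  haveI := hs; haveI := hf; haveI := hp
  have hm : ∀ {T : Over B} (r₁ r₂ : T ⟶ G ⊗ G), r₁ ≫ (G ◁ q) = r₂ ≫ (G ◁ q) → r₁ ≫ m₀ ≫ q = r₂ ≫ m₀ ≫ q := by
    intro T r₁ r₂ e
    have e1 : r₁ ≫ fst G G = r₂ ≫ fst G G := by simpa using e =≫ fst G X
    have e2 : (r₁ ≫ snd G G) ≫ q = (r₂ ≫ snd G G) ≫ q := by simpa using e =≫ snd G X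
    let f := h.lift _ _ e2 ≫ fst F G
    have e3 : lift f (r₂ ≫ snd G G) ≫ (translation u).act = r₁ ≫ snd G G := by
      have : lift f (r₂ ≫ snd G G) = h.lift _ _ e2 := by
        apply CartesianMonoidalCategory.hom_ext
        · rw [lift_fst]
        · rw [lift_snd, h.lift_snd]
      rw [this]
      exact h.lift_fst _ _ _
    have hm₀ : ∀ r : T ⟶ G ⊗ G, r ≫ m₀ = (r ≫ snd G G) * (r ≫ fst G G)⁻¹ := fun r => by
      simp [m₀, MonObj.comp_mul, GrpObj.comp_inv]
    rw [← Category.assoc, ← Category.assoc, hm₀, hm₀, e1, ← translation_mul_right u (g := (r₂ ≫ fst G G)⁻¹) e3,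
      Category.assoc]
    show lift f _ ≫ ((u ▷ G) ≫ μ[G]) ≫ q = _
    rw [h.w, ← Category.assoc, lift_snd]
  have hdesc : ∀ {Z : Scheme.{u}} (g₁ g₂ : Z ⟶ (G ⊗ G).left), g₁ ≫ (G ◁ q).left = g₂ ≫ (G ◁ q).left →
      g₁ ≫ (m₀ ≫ q).left = g₂ ≫ (m₀ ≫ q).left := by
    intro Z g₁ g₂ e
    let Z' : Over B := Over.mk (g₁ ≫ (G ⊗ G).hom)
    let r₁ : Z' ⟶ G ⊗ G := Over.homMk g₁ rfl
    let r₂ : Z' ⟶ G ⊗ G := Over.homMk g₂ (by
      change g₂ ≫ (G ⊗ G).hom = g₁ ≫ (G ⊗ G).hom
      rw [← Over.w (G ◁ q), reassoc_of% e])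
    exact congrArg CommaMorphism.left (hm r₁ r₂ (Over.OverMorphism.ext e))
  let act : G ⊗ X ⟶ X := Over.homMk (EffectiveEpi.desc (G ◁ q).left (m₀ ≫ q).left hdesc) (by
    rw [← cancel_epi (G ◁ q).left, EffectiveEpi.fac_assoc, Over.w, Over.w])
  have hact : (G ◁ q) ≫ act = m₀ ≫ q := Over.OverMorphism.ext (EffectiveEpi.fac (G ◁ q).left (m₀ ≫ q).left hdesc)
  have hpt : ∀ {T : Over B} (g g' : T ⟶ G), lift g (g' ≫ q) ≫ act = (g' * g⁻¹) ≫ q := by
    intro T g g'
    rw [show lift g (g' ≫ q) = lift g g' ≫ (G ◁ q) by ext <;> simp, Category.assoc, hact, ← Category.assoc]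
    simp [m₀, MonObj.comp_mul, GrpObj.comp_inv]
  have hpt' : ∀ {T : Over B} (z : T ⟶ G ⊗ X) (g g' : T ⟶ G), z ≫ fst G X = g → z ≫ snd G X = g' ≫ q →
      z ≫ act = (g' * g⁻¹) ≫ q := by
    intro T z g g' h1 h2
    rw [← hpt]
    congr 1
    apply CartesianMonoidalCategory.hom_ext
    · rw [lift_fst, h1]
    · rw [lift_snd, h2]
  haveI := epi_of_cover _ (cover_whiskerLeft (𝟙_ (Over B)) q)
  haveI := epi_of_cover _ (cover_whiskerLeft (G ⊗ G) q)
  refine ⟨⟨act, ?_, ?_⟩, ?_, hpt⟩
  · rw [← cancel_epi (𝟙_ (Over B) ◁ q), ← Category.assoc,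
      hpt' ((𝟙_ (Over B) ◁ q) ≫ η[G] ▷ X) 1 (snd _ G) (by simp [Hom.one_def]) (by
        rw [Category.assoc, whiskerRight_snd, whiskerLeft_snd])]
    simp
    first
      | done
      | exact congrArg (· ≫ q) (CartesianMonoidalCategory.leftUnitor_hom G).symm
      | exact congrArg (· ≫ q) (CartesianMonoidalCategory.leftUnitor_hom G)
  · rw [← cancel_epi ((G ⊗ G) ◁ q), ← Category.assoc,
      hpt' (((G ⊗ G) ◁ q) ≫ μ[G] ▷ X) ((fst (G ⊗ G) G ≫ fst G G) * (fst (G ⊗ G) G ≫ snd G G))
        (snd (G ⊗ G) G) (by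
          rw [← MonObj.comp_mul, Hom.mul_def, lift_fst_snd, Category.id_comp, Category.assoc, whiskerRight_fst,
            whiskerLeft_fst_assoc]) (by simp)]
    have h1 : ((G ⊗ G) ◁ q) ≫ (α_ G G X).hom ≫ (G ◁ act) ≫ act =
        lift (fst (G ⊗ G) G ≫ fst G G)
          ((snd (G ⊗ G) G * (fst (G ⊗ G) G ≫ snd G G)⁻¹) ≫ q) ≫ act := by
      rw [← Category.assoc, ← Category.assoc]
      congr 1
      apply CartesianMonoidalCategory.hom_ext
      · simp
      · rw [← hpt' (((G ⊗ G) ◁ q) ≫ (α_ G G X).hom ≫ snd G (G ⊗ X)) (fst (G ⊗ G) G ≫ snd G G)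
          (snd (G ⊗ G) G) (by simp) (by simp)]
        simp
    rw [h1, hpt, _root_.mul_inv_rev, _root_.mul_assoc]
  · obtain ⟨hs', -, -⟩ := cover_whiskerLeft X q
    have hqq : Surjective ((q ▷ G) ≫ (X ◁ q)).left := by
      have : Surjective (q ▷ G).left := MorphismProperty.of_isPullback (P := @Surjective)
        (Assoc.isPullback_whiskerRight (Z := G) q) ‹Surjective q.left›
      haveI := hs'
      rw [Over.comp_left]
      infer_instance
    let k : G ⊗ G ⟶ G ⊗ G := lift ((fst G G)⁻¹ * snd G G) (snd G G)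
    have hk : k ≫ lift m₀ (snd G G) = 𝟙 _ := by
      apply CartesianMonoidalCategory.hom_ext
      · simp [m₀, k, MonObj.comp_mul, GrpObj.comp_inv, _root_.mul_inv_rev]
      · simp [k]
    have hsh : Surjective (lift m₀ (snd G G)).left := ⟨fun x => ⟨k.left x, by
      rw [← Scheme.Hom.comp_apply, ← Over.comp_left, hk]; rfl⟩⟩
    have e : (G ◁ q) ≫ lift act (snd G X) = lift m₀ (snd G G) ≫ (q ▷ G) ≫ (X ◁ q) := by
      apply CartesianMonoidalCategory.hom_ext
      · simp [hact]
      · simp
    haveI : Surjective ((G ◁ q).left ≫ (lift act (snd G X)).left) := by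
      rw [← Over.comp_left, e, Over.comp_left]
      haveI := hsh; haveI := hqq
      infer_instance
    exact Surjective.of_comp (G ◁ q).left (lift act (snd G X)).left

/-- components of the quotient over a field -/
theorem components_of_quotient_field {k : Type u} [Field k] {F G X : Over (Spec (CommRingCat.of k))}
    [GrpObj F] [GrpObj G] [LocallyOfFiniteType F.hom] [LocallyOfFiniteType G.hom] [IsSeparated X.hom]
    [LocallyOfFiniteType X.hom] (u : F ⟶ G) [IsMonHom u] (q : G ⟶ X) [Surjective q.left] [Flat q.left]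
    [LocallyOfFinitePresentation q.left] (h : IsPullback ((u ▷ G) ≫ μ[G]) (snd F G) q q) (x : X.left) :
    IsIrreducible (connectedComponent x) ∧ IsCompact (connectedComponent x) ∧
      topologicalKrullDim ↥(connectedComponent x) + topologicalKrullDim ↥F.left = topologicalKrullDim ↥G.left := by
  obtain ⟨a, ha, -⟩ := exists_homogeneous_action u q h
  haveI : QuasiSeparatedSpace X.left := quasiSeparatedSpace_of_quasiSeparated X.hom
  have hc : connectedComponent x = irreducibleComponent x := GrpComp.connectedComponent_eq_homog a ha x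
  refine ⟨hc ▸ isIrreducible_irreducibleComponent, hc ▸ GrpComp.isCompact_component a ha x, ?_⟩
  haveI : IsLocallyNoetherian G.left := LocallyOfFiniteType.isLocallyNoetherian G.hom
  haveI : IsLocallyNoetherian X.left := LocallyOfFiniteType.isLocallyNoetherian X.hom
  have hdim : ∀ {Y : Over (Spec (CommRingCat.of k))} [GrpObj Y] [LocallyOfFiniteType Y.hom] (y : Y.left),
      FlatMor.localDim Y.left y = topologicalKrullDim Y.left := by
    intro Y _ _ y
    unfold FlatMor.localDim
    refine le_antisymm ?_ (le_iInf fun U => ?_)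
    · exact (iInf_le _ (⟨⊤, trivial⟩ : {U : TopologicalSpace.Opens Y.left // y ∈ U})).trans_eq
        ((GrpField.equidimensional Y).2 y _ isOpen_univ trivial)
    · exact ((GrpField.equidimensional Y).2 y _ U.1.2 U.2).ge
  have e₀ : GrpComp.ept F ∈ (Set.univ : Set F.left) := trivial
  obtain ⟨b, δ, -, hbd, -⟩ := CMChart.localDim_field_eq F.hom (GrpComp.ept F)
  let d := b + δ
  have hFd : topologicalKrullDim F.left = (d : WithBot ℕ∞) := (hdim _).symm.trans hbd
  have hfib : ∀ g, FlatMor.fibreDimAt q.left g = d := fun g => by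
    have hsq : IsPullback ((u ▷ G) ≫ μ[G]).left (snd F G).left q.left q.left := h.map (Over.forget _)
    haveI : LocallyOfFiniteType q.left := inferInstance
    let e : G ⟶ F ⊗ G := lift 1 (𝟙 G)
    have he : ((u ▷ G) ≫ μ[G]).left (e.left g) = g := by
      rw [← Scheme.Hom.comp_apply, ← Over.comp_left]
      show (lift 1 (𝟙 G) ≫ (translation u).act).left g = g
      rw [translation_apply, MonObj.one_comp, _root_.one_mul]
      rfl
    rw [← he, ← LocalDimBC.fibreDimAt_of_isPullback q.left q.left _ _ hsq (e.left g)]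
    rw [LocalDimBC.fibreDimAt_of_isPullback F.hom G.hom (fst F G).left (snd F G).left
      (IsPullback.of_hasPullback F.hom G.hom)]
    rw [CMChart.fibreDimAt_eq_localDim F.hom, hdim, hFd]
  haveI : LocallyOfFiniteType q.left := inferInstance
  obtain ⟨g₀, hg₀⟩ := q.left.surjective x
  have hI : IsIrreducible (irreducibleComponent x) := isIrreducible_irreducibleComponent
  let gp := hI.genericPoint
  have hgp : closure ({gp} : Set X.left) = irreducibleComponent x :=
    hI.closure_genericPoint isClosed_irreducibleComponent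
  have hmax : Unibranch.IsMaxPt gp := fun m hm => by
    have h1 : irreducibleComponent x ⊆ closure ({m} : Set X.left) := by
      rw [← hgp]
      exact closure_minimal (Set.singleton_subset_iff.2 (specializes_iff_mem_closure.1 hm)) isClosed_closure
    have h2 := (irreducibleComponent_mem_irreducibleComponents x).2 (isIrreducible_singleton.closure) h1
    have : m ∈ closure ({gp} : Set X.left) := hgp.symm ▸ h2 (subset_closure rfl)
    exact (hm.antisymm (specializes_iff_mem_closure.2 this)).eq
  obtain ⟨gy, hgy⟩ := q.left.surjective gp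
  rw [hc, ← hgp, LocalDimBC.topologicalKrullDim_closure_eq X.hom gp hmax, hFd, ← hgy,
    ← SpRelDim.localDim_eq_of_fibreDimAt q.left hfib gy, hdim]

open scoped CategoryTheory.Obj in
/-- components of the quotient over a base with one point -/
theorem components_of_quotient_point {A k : Type u} [CommRing A] [Field k] (φ : A →+* k) (hφ : Function.Surjective φ)
    [Subsingleton (Spec (CommRingCat.of A))]
    {F G X : Over (Spec (CommRingCat.of A))} [GrpObj F] [GrpObj G] [LocallyOfFiniteType F.hom]
    [LocallyOfFiniteType G.hom] [IsSeparated X.hom]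
    [LocallyOfFiniteType X.hom] (u : F ⟶ G) [IsMonHom u] (q : G ⟶ X) [Surjective q.left] [Flat q.left]
    [LocallyOfFinitePresentation q.left] (h : IsPullback ((u ▷ G) ≫ μ[G]) (snd F G) q q) (x : X.left) :
    IsIrreducible (connectedComponent x) ∧ IsCompact (connectedComponent x) ∧
      topologicalKrullDim ↥(connectedComponent x) + topologicalKrullDim ↥F.left = topologicalKrullDim ↥G.left := by
  let B := Spec (CommRingCat.of A)
  let jj : Spec (CommRingCat.of k) ⟶ B := Spec.map (CommRingCat.ofHom φ)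
  haveI : IsClosedImmersion jj := IsClosedImmersion.spec_of_surjective _ hφ
  haveI : Surjective jj := ⟨fun x => ⟨IsLocalRing.closedPoint k, Subsingleton.elim _ _⟩⟩
  let Φ := Over.pullback jj
  haveI : LocallyOfFiniteType (Φ.obj F).hom := inferInstanceAs (LocallyOfFiniteType (pullback.snd F.hom jj))
  haveI : LocallyOfFiniteType (Φ.obj G).hom := inferInstanceAs (LocallyOfFiniteType (pullback.snd G.hom jj))
  haveI : LocallyOfFiniteType (Φ.obj X).hom := inferInstanceAs (LocallyOfFiniteType (pullback.snd X.hom jj))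
  haveI : IsSeparated (Φ.obj X).hom := inferInstanceAs (IsSeparated (pullback.snd X.hom jj))
  haveI : Surjective (Φ.map q).left :=
    MorphismProperty.of_isPullback (P := @Surjective) (GrpLoc.isPullback_bc jj q) ‹Surjective q.left›
  haveI : Flat (Φ.map q).left :=
    MorphismProperty.of_isPullback (P := @Flat) (GrpLoc.isPullback_bc jj q) ‹Flat q.left›
  haveI : LocallyOfFinitePresentation (Φ.map q).left :=
    MorphismProperty.of_isPullback (P := @LocallyOfFinitePresentation) (GrpLoc.isPullback_bc jj q)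
      ‹LocallyOfFinitePresentation q.left›
  have h' : IsPullback ((Φ.map u ▷ Φ.obj G) ≫ μ[Φ.obj G]) (snd (Φ.obj F) (Φ.obj G)) (Φ.map q) (Φ.map q) := by
    refine (h.map Φ).of_iso (Functor.Monoidal.μIso Φ F G).symm (Iso.refl _) (Iso.refl _) (Iso.refl _) ?_ ?_ ?_ ?_
    · rw [Iso.refl_hom, Category.comp_id, Iso.symm_hom, Iso.eq_inv_comp]
      show Functor.LaxMonoidal.μ Φ F G ≫ Φ.map ((u ▷ G) ≫ μ[G]) = _
      rw [Functor.map_comp, ← Functor.LaxMonoidal.μ_natural_left_assoc, Functor.obj.μ_def]
    · rw [Iso.refl_hom, Category.comp_id, Iso.symm_hom, Iso.eq_inv_comp]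
      exact Functor.Monoidal.μ_snd _ _ _
    · simp
    · simp
  have hhomeo : ∀ Y : Over B, IsHomeomorph (pullback.fst Y.hom jj) := fun Y =>
    isHomeomorph_iff_isEmbedding_surjective.2
      ⟨(pullback.fst Y.hom jj).isClosedEmbedding.isEmbedding, (pullback.fst Y.hom jj).surjective⟩
  let eX : (Φ.obj X).left ≃ₜ X.left := (hhomeo X).homeomorph _
  obtain ⟨x', rfl⟩ := eX.surjective x
  obtain ⟨hi, hco, hd⟩ := components_of_quotient_field (Φ.map u) (Φ.map q) h' x'
  have himg : eX '' connectedComponent x' = connectedComponent (eX x') := by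
    refine Set.Subset.antisymm (eX.continuous.image_connectedComponent_subset _) fun y hy => ?_
    refine ⟨eX.symm y, ?_, eX.apply_symm_apply y⟩
    have := eX.symm.continuous.image_connectedComponent_subset (eX x') ⟨y, hy, rfl⟩
    rwa [eX.symm_apply_apply] at this
  rw [← himg]
  refine ⟨hi.image _ eX.continuous.continuousOn, hco.image eX.continuous, ?_⟩
  rw [← (eX.image (connectedComponent x')).isHomeomorph.topologicalKrullDim_eq,
    ← (hhomeo F).topologicalKrullDim_eq, ← (hhomeo G).topologicalKrullDim_eq]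
  exact hd

end Groth.Agent.MonoFactor
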