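import Groth.Agent.S10102
import Groth.Agent.Bootstrap.QuotSp
import Groth.Agent.Bootstrap.Effective
import Groth.Agent.AlgSpLib.Singleton
import Groth.Agent.AlgSpLib.SheafLemmas
import Groth.Agent.AlgSpLib.FppfBase
import Groth.Agent.FppfSource.AlgSp
import Groth.Agent.SpThick.Main
import Groth.Prelude.Def_Grpd
import Mathlib

/-!
The quotient of a flat locally finitely presented scheme-theoretic equivalence relation is a scheme as soon as
its restriction to a saturated thickened subscheme has a quotient scheme.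
-/

set_option autoImplicit false
set_option linter.style.haveILetI false
set_option backward.isDefEq.respectTransparency false

universe u

open CategoryTheory CategoryTheory.Limits AlgebraicGeometry
open Groth.Agent.AlgSpLib AlgSp

namespace Groth.Agent.MonoFactor

theorem exists_quotient_of_thick {B : Scheme.{u}} (G : Grpd.GroupoidScheme B)
    [Mono G.j] [Flat G.s] [LocallyOfFinitePresentation G.s] [Flat G.t] [LocallyOfFinitePresentation G.t]
    {U₀ : Scheme.{u}} (c₀ : U₀ ⟶ G.U) [IsClosedImmersion c₀] [Surjective c₀]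
    (ψ : pullback G.s c₀ ≅ pullback G.t c₀) (hψ : ψ.hom ≫ pullback.fst G.t c₀ = pullback.fst G.s c₀)
    {Y₀ : Scheme.{u}} (p₀ : U₀ ⟶ Y₀) [Surjective p₀] [Flat p₀] [LocallyOfFinitePresentation p₀]
    (hR₀ : IsPullback (ψ.hom ≫ pullback.snd G.t c₀) (pullback.snd G.s c₀) p₀ p₀) :
    ∃ (Y : Scheme.{u}) (p : G.U ⟶ Y), Surjective p ∧ Flat p ∧ LocallyOfFinitePresentation p ∧
      IsPullback G.t G.s p p := by
  let U : Over B := Over.mk G.pU
  let R : Over B := Over.mk G.pR
  let s : R ⟶ U := Over.homMk G.s G.s_over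
  let t : R ⟶ U := Over.homMk G.t G.t_over
  let s' := (yon B).map s
  let t' := (yon B).map t
  have heqv : IsEqvRelSp s' t' := by
    have hj : ∀ (T : Over B) (r r' : T ⟶ R), r ≫ t = r' ≫ t → r ≫ s = r' ≫ s → r = r' := by
      intro T r r' h1 h2
      ext : 1
      rw [← cancel_mono G.j]
      refine pullback.hom_ext ?_ ?_
      · simp only [Category.assoc, Grpd.GroupoidScheme.j, pullback.lift_fst]
        exact congrArg CommaMorphism.left h1
      · simp only [Category.assoc, Grpd.GroupoidScheme.j, pullback.lift_snd]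
        exact congrArg CommaMorphism.left h2
    have hmk : ∀ (T : Over B) (a b : (yon B).obj T ⟶ (yon B).obj U) (a' b' : T ⟶ U) (r : T.left ⟶ G.R),
        (yon B).map a' = a → (yon B).map b' = b → r ≫ G.t = a'.left → r ≫ G.s = b'.left →
        ∃ r : (yon B).obj T ⟶ (yon B).obj R, r ≫ t' = a ∧ r ≫ s' = b := by
      intro T a b a' b' r ha hb h1 h2
      let r' : T ⟶ R := Over.homMk r (by
        change r ≫ G.pR = T.hom
        rw [← G.t_over, reassoc_of% h1]
        exact Over.w a')
      refine ⟨(yon B).map r', ?_, ?_⟩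
      · rw [← Functor.map_comp, ← ha]; congr 1; exact Over.OverMorphism.ext h1
      · rw [← Functor.map_comp, ← hb]; congr 1; exact Over.OverMorphism.ext h2
    refine ⟨fun T r r' h1 h2 => ?_, fun T => ⟨fun a => ?_, fun {a b} h => ?_, fun {a b d} h k => ?_⟩⟩
    · obtain ⟨r, rfl⟩ := (yon B).map_surjective r
      obtain ⟨r', rfl⟩ := (yon B).map_surjective r'
      rw [← Functor.map_comp, ← Functor.map_comp] at h1 h2
      rw [hj T r r' ((yon B).map_injective h1) ((yon B).map_injective h2)]
    · obtain ⟨a, rfl⟩ := (yon B).map_surjective a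
      exact hmk T _ _ a a (a.left ≫ G.e) rfl rfl (by rw [Category.assoc, G.e_t]; exact Category.comp_id _)
        (by rw [Category.assoc, G.e_s]; exact Category.comp_id _)
    · obtain ⟨r, h1, h2⟩ := h
      obtain ⟨r, rfl⟩ := (yon B).map_surjective r
      rw [← Functor.map_comp] at h1 h2
      refine hmk T b a _ _ (r.left ≫ G.i) h2 h1 ?_ ?_
      · rw [Category.assoc, G.i_t]; rfl
      · rw [Category.assoc, G.i_s]; rfl
    · obtain ⟨r, h1, h2⟩ := h
      obtain ⟨q, k1, k2⟩ := k
      obtain ⟨r, rfl⟩ := (yon B).map_surjective r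
      obtain ⟨q, rfl⟩ := (yon B).map_surjective q
      rw [← Functor.map_comp] at h1 h2 k1 k2
      have e : r.left ≫ G.s = q.left ≫ G.t :=
        congrArg CommaMorphism.left ((yon B).map_injective (h2.trans k1.symm))
      refine hmk T a d _ _ (pullback.lift r.left q.left e ≫ G.c) h1 k2 ?_ ?_
      · rw [G.comp_t]; rfl
      · rw [G.comp_s]; rfl
  haveI : Flat s.left := inferInstanceAs (Flat G.s)
  haveI : Flat t.left := inferInstanceAs (Flat G.t)
  haveI : LocallyOfFinitePresentation s.left := inferInstanceAs (LocallyOfFinitePresentation G.s)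
  haveI : LocallyOfFinitePresentation t.left := inferInstanceAs (LocallyOfFinitePresentation G.t)
  have hs : LocP @Flat s' ∧ LocP @LocallyOfFinitePresentation s' :=
    ⟨locP_yon_map etST_flat s inferInstance, locP_yon_map etST_lfp s inferInstance⟩
  have ht : LocP @Flat t' ∧ LocP @LocallyOfFinitePresentation t' :=
    ⟨locP_yon_map etST_flat t inferInstance, locP_yon_map etST_lfp t inferInstance⟩
  have hRs := IsAlgSpace.yon_obj R
  have hUs := IsAlgSpace.yon_obj U
  have hQ : IsAlgSpace (quotSp s' t') := S10102.result B _ _ hRs hUs s' t' heqv hs ht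
  let π := quotSpπ s' t'
  haveI : Epi π := Bootstrap.epi_quotSpπ
  haveI : Sheaf.IsLocallySurjective π := (Sheaf.isLocallySurjective_iff_epi _).2 inferInstance
  have hker : IsPullback t' s' π π := Bootstrap.isPullback_quotSp s' t' heqv
  -- the thickened subscheme and its quotient over the base
  let U₀' : Over B := Over.mk (c₀ ≫ G.pU)
  let c : U₀' ⟶ U := Over.homMk c₀ rfl
  haveI : Mono c.left := inferInstanceAs (Mono c₀)
  haveI : Mono c := Over.mono_of_mono_left c
  have hagree : ∀ {Z : Scheme.{u}} (g₁ g₂ : Z ⟶ U₀), g₁ ≫ p₀ = g₂ ≫ p₀ →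
      ∃ r : Z ⟶ G.R, r ≫ G.t = g₁ ≫ c₀ ∧ r ≫ G.s = g₂ ≫ c₀ := by
    intro Z g₁ g₂ h
    refine ⟨hR₀.lift g₁ g₂ h ≫ pullback.fst G.s c₀, ?_, ?_⟩
    · rw [Category.assoc, ← hψ, Category.assoc, pullback.condition, ← Category.assoc ψ.hom, ← Category.assoc,
        hR₀.lift_fst]
    · rw [Category.assoc, pullback.condition, ← Category.assoc, hR₀.lift_snd]
  have hm : ∀ {Z : Scheme.{u}} (g₁ g₂ : Z ⟶ U₀), g₁ ≫ p₀ = g₂ ≫ p₀ → g₁ ≫ c₀ ≫ G.pU = g₂ ≫ c₀ ≫ G.pU := by
    intro Z g₁ g₂ h
    obtain ⟨r, h1, h2⟩ := hagree g₁ g₂ h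
    rw [← reassoc_of% h1, ← reassoc_of% h2, G.t_over, G.s_over]
  let m : Y₀ ⟶ B := EffectiveEpi.desc p₀ (c₀ ≫ G.pU) hm
  let Y₀' : Over B := Over.mk m
  let q₀ : U₀' ⟶ Y₀' := Over.homMk p₀ (EffectiveEpi.fac p₀ (c₀ ≫ G.pU) hm)
  haveI : Flat q₀.left := inferInstanceAs (Flat p₀)
  haveI : Surjective q₀.left := inferInstanceAs (Surjective p₀)
  haveI : LocallyOfFinitePresentation q₀.left := inferInstanceAs (LocallyOfFinitePresentation p₀)
  -- the map of quotients
  obtain ⟨ι, hι⟩ := exists_desc q₀ ((yon B).map c ≫ π) (fun W a b h => by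
    obtain ⟨r, h1, h2⟩ := hagree a.left b.left (congrArg CommaMorphism.left h)
    let r' : W ⟶ R := Over.homMk r (by
      change r ≫ G.pR = W.hom
      rw [← G.t_over, reassoc_of% h1]
      exact Over.w a)
    have e1 : r' ≫ t = a ≫ c := Over.OverMorphism.ext h1
    have e2 : r' ≫ s = b ≫ c := Over.OverMorphism.ext h2
    rw [← Category.assoc, ← Category.assoc, ← Functor.map_comp, ← Functor.map_comp, ← e1, ← e2,
      Functor.map_comp, Functor.map_comp, Category.assoc, Category.assoc]
    exact congrArg ((yon B).map r' ≫ ·) (quotSp_condition s' t').symm)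
  have sq : IsPullback ((yon B).map q₀) ((yon B).map c) ι π := by
    refine isPullback_of_points hι fun T b a hab => ?_
    obtain ⟨b, rfl⟩ := (yon B).map_surjective b
    obtain ⟨a, rfl⟩ := (yon B).map_surjective a
    let T' : Over B := Over.mk (pullback.fst b.left p₀ ≫ T.hom)
    let g : T' ⟶ T := Over.homMk (pullback.fst b.left p₀) rfl
    let b₀ : T' ⟶ U₀' := Over.homMk (pullback.snd b.left p₀) (by
      change pullback.snd b.left p₀ ≫ c₀ ≫ G.pU = pullback.fst b.left p₀ ≫ T.hom
      rw [← Over.w b, pullback.condition_assoc]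
      exact congrArg (pullback.snd b.left p₀ ≫ ·) (Over.w q₀).symm)
    have hb₀ : g ≫ b = b₀ ≫ q₀ := Over.OverMorphism.ext pullback.condition
    haveI : Flat g.left := inferInstanceAs (Flat (pullback.fst b.left p₀))
    haveI : Surjective g.left := inferInstanceAs (Surjective (pullback.fst b.left p₀))
    haveI : LocallyOfFinitePresentation g.left :=
      inferInstanceAs (LocallyOfFinitePresentation (pullback.fst b.left p₀))
    haveI := epi_yon_map g
    obtain ⟨r, hr⟩ := (yon B).map_surjective (hker.lift ((yon B).map (g ≫ a)) ((yon B).map (b₀ ≫ c)) (by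
      rw [Functor.map_comp, Functor.map_comp, Category.assoc, Category.assoc, ← hab, ← hι, ← Category.assoc,
        ← Category.assoc, ← Functor.map_comp, ← Functor.map_comp, hb₀]))
    have e1 : r ≫ t = g ≫ a := (yon B).map_injective (by rw [Functor.map_comp, hr, hker.lift_fst])
    have e2 : r ≫ s = b₀ ≫ c := (yon B).map_injective (by rw [Functor.map_comp, hr, hker.lift_snd])
    let r₀ : T'.left ⟶ pullback G.s c₀ :=
      pullback.lift r.left b₀.left (congrArg CommaMorphism.left e2)
    let r₁ : T' ⟶ U₀' := Over.homMk (r₀ ≫ ψ.hom ≫ pullback.snd G.t c₀) (by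
      change (r₀ ≫ ψ.hom ≫ pullback.snd G.t c₀) ≫ c₀ ≫ G.pU = T'.hom
      simp only [Category.assoc]
      rw [← pullback.condition_assoc, reassoc_of% hψ, pullback.lift_fst_assoc, G.t_over]
      exact Over.w r)
    have hr₁ : r₁ ≫ c = g ≫ a := by
      refine Over.OverMorphism.ext ?_
      change (r₀ ≫ ψ.hom ≫ pullback.snd G.t c₀) ≫ c₀ = _
      simp only [Category.assoc]
      rw [← pullback.condition, reassoc_of% hψ, pullback.lift_fst_assoc]
      exact congrArg CommaMorphism.left e1
    have hr₁q : r₁ ≫ q₀ = g ≫ b := by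
      rw [hb₀]
      refine Over.OverMorphism.ext ?_
      change (r₀ ≫ ψ.hom ≫ pullback.snd G.t c₀) ≫ p₀ = b₀.left ≫ p₀
      rw [Category.assoc, hR₀.w, pullback.lift_snd_assoc]
    have hcs : CommSq ((yon B).map r₁) ((yon B).map g) ((yon B).map c) ((yon B).map a) :=
      ⟨by rw [← Functor.map_comp, ← Functor.map_comp, hr₁]⟩
    haveI : StrongEpi ((yon B).map g) := strongEpi_of_epi _
    haveI : Mono ((yon B).map c) := inferInstance
    refine ⟨hcs.lift, ⟨?_, hcs.fac_right⟩, fun k hk => ?_⟩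
    · rw [← cancel_epi ((yon B).map g), ← Category.assoc, hcs.fac_left, ← Functor.map_comp, hr₁q,
        Functor.map_comp]
    · rw [← cancel_mono ((yon B).map c), hk.2, hcs.fac_right]
  -- the map of quotients is a thickening
  have hπflat : LocP @Flat π := Bootstrap.locP_quotSpπ _ etST_flat hRs hUs heqv hQ hs.1
  have hπlfp : LocP @LocallyOfFinitePresentation π := Bootstrap.locP_quotSpπ _ etST_lfp hRs hUs heqv hQ hs.2
  have hcov : IsFppfCover (fun _ : PUnit.{u + 1} => (yon B).obj U) (fun _ => π) :=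
    ⟨fun _ => ⟨hπflat, hπlfp⟩, fun x => ⟨PUnit.unit, Bootstrap.isSurjectiveMor_quotSpπ x⟩⟩
  haveI : (AlgSp.thick.{u}).IsStableUnderBaseChange :=
    inferInstanceAs (MorphismProperty.IsStableUnderBaseChange (@IsClosedImmersion ⊓ @Surjective : MorphismProperty Scheme.{u}))
  haveI : IsZariskiLocalAtTarget (AlgSp.thick.{u}) :=
    inferInstanceAs (IsZariskiLocalAtTarget (@IsClosedImmersion ⊓ @Surjective : MorphismProperty Scheme.{u}))
  haveI : (AlgSp.thick.{u}).DescendsAlong (@Surjective ⊓ @Flat ⊓ @LocallyOfFinitePresentation) :=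
    inferInstanceAs (MorphismProperty.DescendsAlong (@IsClosedImmersion ⊓ @Surjective : MorphismProperty Scheme.{u}) _)
  have hth : IsThickMor ι := repWith_of_fppfCover AlgSp.thick
    (fun _ _ r hr => by
      have : IsClosedImmersion r := hr.1
      exact QA.IndQA.of_isImmersion r) hQ (fun _ => hUs) hcov ι (fun _ => (yon B).obj U₀')
    (fun _ => (yon B).map c) (fun _ => (yon B).map q₀) (fun _ => sq)
    (fun _ => (repWith_yon_iff c).2 ⟨‹IsClosedImmersion c₀›, ‹Surjective c₀›⟩)
  obtain ⟨Y, ⟨φ⟩⟩ := SpThick.exists_scheme_of_thick hQ hth (Iso.refl ((yon B).obj Y₀'))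
  obtain ⟨p, hp⟩ := (yon B).map_surjective (π ≫ φ.inv)
  have comm : 𝟙 ((yon B).obj U) ≫ π = (yon B).map p ≫ φ.hom := by
    rw [hp, Category.assoc, Iso.inv_hom_id, Category.comp_id, Category.id_comp]
  have hφ : RepWith @Etale φ.hom := repWith_of_isIso _
  refine ⟨Y.left, p.left, ⟨fun w => ?_⟩, hπflat (𝟙 _) φ.hom p (repWith_id _ U) hφ comm,
    hπlfp (𝟙 _) φ.hom p (repWith_id _ U) hφ comm, ?_⟩
  · obtain ⟨W', g, l, _, hgs, _, hl⟩ := exists_fppf_lift π φ.hom
    obtain ⟨l, rfl⟩ := (yon B).map_surjective l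
    have : l ≫ p = g := (yon B).map_injective (by
      rw [Functor.map_comp, hp, reassoc_of% hl, Iso.hom_inv_id, Category.comp_id])
    obtain ⟨z, hz⟩ := g.left.surjective w
    refine ⟨l.left z, ?_⟩
    show (l.left ≫ p.left) z = w
    rw [← Over.comp_left, this]
    exact hz
  · have h' : IsPullback t' s' (π ≫ φ.inv) (π ≫ φ.inv) :=
      hker.of_iso (Iso.refl _) (Iso.refl _) (Iso.refl _) φ.symm (by simp) (by simp) (by simp) (by simp)
    rw [← hp] at h'
    exact isPullback_yon_iff.1 h'

end Groth.Agent.MonoFactor
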