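import Groth.Agent.MonoFactor.Homog
import Groth.Agent.MonoFactor.Thick
import Groth.Agent.MonoFactor.Orbit
import Groth.Agent.GrpAct.Groupoid
import Groth.Agent.GrpAct.OrbitFlat
import Groth.Agent.GrpField.Kernel
import Groth.Agent.GrpLoc.BaseChange
import Groth.Agent.AlgSpLib.LocalTarget
import Mathlib

/-!
Quotients of group schemes by flat subgroup schemes over fields and local artinian rings.
-/

set_option autoImplicit false
set_option linter.style.haveILetI false
set_option backward.isDefEq.respectTransparency false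
set_option backward.isDefEq.respectTransparency.types false

universe u

open CategoryTheory CategoryTheory.Limits AlgebraicGeometry MonoidalCategory CartesianMonoidalCategory MonObj GrpObj
open Groth.Agent.AlgSpLib AlgSp

noncomputable section

namespace Groth.Agent.MonoFactor

variable {B : Scheme.{u}} {F G : Over B} [GrpObj F] [GrpObj G] (u : F ⟶ G) [IsMonHom u]

theorem translation_apply {T : Over B} (f : T ⟶ F) (g : T ⟶ G) :
    lift f g ≫ (translation u).act = (f ≫ u) * g := by
  show lift f g ≫ (u ▷ G) ≫ μ[G] = _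
  rw [Hom.mul_def, ← Category.assoc]
  congr 1
  ext <;> simp

/-- the shear of a group object -/
def shearMul (G : Over B) [GrpObj G] : G ⊗ G ≅ G ⊗ G where
  hom := lift (fst G G * snd G G) (snd G G)
  inv := lift (fst G G * (snd G G)⁻¹) (snd G G)
  hom_inv_id := by
    apply CartesianMonoidalCategory.hom_ext <;>
      simp [MonObj.comp_mul, GrpObj.comp_inv]
  inv_hom_id := by
    apply CartesianMonoidalCategory.hom_ext <;>
      simp [MonObj.comp_mul]

theorem translation_pair :
    lift (translation u).act (snd F G) = (u ▷ G) ≫ (shearMul G).hom := by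
  apply CartesianMonoidalCategory.hom_ext
  · rw [lift_fst, Category.assoc, shearMul, lift_fst, MonObj.comp_mul, whiskerRight_fst, whiskerRight_snd,
      ← translation_apply, lift_fst_snd, Category.id_comp]
  · simp [shearMul]

theorem isClosedImmersion_pair [IsClosedImmersion u.left] :
    IsClosedImmersion (lift (translation u).act (snd F G)).left := by
  rw [translation_pair, Over.comp_left]
  haveI : IsIso (shearMul G).hom.left := ((Over.forget B).mapIso (shearMul G)).isIso_hom
  haveI : IsClosedImmersion (u ▷ G).left := by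
    suffices h : IsPullback (fst F G) (u ▷ G) u (fst G G) from
      MorphismProperty.of_isPullback (P := @IsClosedImmersion) (h.map (Over.forget B)) ‹IsClosedImmersion u.left›
    exact ⟨⟨(whiskerRight_fst u G).symm⟩, ⟨PullbackCone.IsLimit.mk _
      (fun c => lift c.fst (c.snd ≫ snd G G)) (fun c => lift_fst _ _)
      (fun c => by
        apply CartesianMonoidalCategory.hom_ext
        · rw [Category.assoc, whiskerRight_fst, lift_fst_assoc]
          exact c.condition
        · rw [Category.assoc, whiskerRight_snd, lift_snd])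
      (fun c m h₁ h₂ => by
        apply CartesianMonoidalCategory.hom_ext
        · rw [lift_fst]; exact h₁
        · rw [lift_snd, ← h₂, Category.assoc, whiskerRight_snd])⟩⟩
  infer_instance

/-- right translations respect the relation -/
theorem translation_mul_right {T : Over B} {a b g : T ⟶ G} {f : T ⟶ F} (h : lift f b ≫ (translation u).act = a) :
    lift f (b * g) ≫ (translation u).act = a * g := by
  rw [translation_apply] at h ⊢
  rw [← h, _root_.mul_assoc]

theorem isEqvRelSp_translation [Mono u] :
    IsEqvRelSp ((yon B).map (snd F G)) ((yon B).map (translation u).act) := by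
  have key : ∀ (T : Over B) (a b : T ⟶ G) (f : T ⟶ F), (f ≫ u) * b = a →
      ∃ r : (yon B).obj T ⟶ (yon B).obj (F ⊗ G), r ≫ (yon B).map (translation u).act = (yon B).map a ∧
        r ≫ (yon B).map (snd F G) = (yon B).map b := fun T a b f h =>
    ⟨(yon B).map (lift f b), by rw [← Functor.map_comp, translation_apply, h], by rw [← Functor.map_comp, lift_snd]⟩
  have hr : ∀ (T : Over B) (r : T ⟶ F ⊗ G),
      (r ≫ fst F G ≫ u) * (r ≫ snd F G) = r ≫ (translation u).act := fun T r => by
    conv_rhs => rw [← Category.comp_id r, ← lift_fst_snd, comp_lift, translation_apply]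
    rw [Category.assoc]
  refine ⟨fun T r r' h1 h2 => ?_, fun T => ⟨fun a => ?_, fun {a b} h => ?_, fun {a b d} h k => ?_⟩⟩
  · obtain ⟨r, rfl⟩ := (yon B).map_surjective r
    obtain ⟨r', rfl⟩ := (yon B).map_surjective r'
    rw [← Functor.map_comp, ← Functor.map_comp] at h1 h2
    have e2 := (yon B).map_injective h2
    have e1 := (yon B).map_injective h1
    rw [← hr, ← hr, e2, mul_left_inj, ← Category.assoc, ← Category.assoc, cancel_mono u] at e1
    congr 1
    exact CartesianMonoidalCategory.hom_ext _ _ e1 e2
  · obtain ⟨a, rfl⟩ := (yon B).map_surjective a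
    exact key T a a 1 (by rw [MonObj.one_comp, _root_.one_mul])
  · obtain ⟨r, h1, h2⟩ := h
    obtain ⟨r, rfl⟩ := (yon B).map_surjective r
    rw [← Functor.map_comp] at h1 h2
    subst h1 h2
    exact key T _ _ (r ≫ fst F G)⁻¹ (by
      rw [GrpObj.inv_comp, ← hr, Category.assoc, inv_mul_cancel_left])
  · obtain ⟨r, h1, h2⟩ := h
    obtain ⟨q, k1, k2⟩ := k
    obtain ⟨r, rfl⟩ := (yon B).map_surjective r
    obtain ⟨q, rfl⟩ := (yon B).map_surjective q
    rw [← Functor.map_comp] at h1 h2 k1 k2
    have e := (yon B).map_injective (h2.trans k1.symm)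
    subst h1 k2
    exact key T _ _ ((r ≫ fst F G) * (q ≫ fst F G)) (by
      rw [MonObj.mul_comp, _root_.mul_assoc, Category.assoc q, hr, ← e, Category.assoc, hr])

/-- the quotient sheaf by a closed subgroup is separated -/
theorem isSeparatedSp_quot_translation [IsClosedImmersion u.left]
    (hQ : IsAlgSpace (quotSp ((yon B).map (snd F G)) ((yon B).map (translation u).act))) :
    IsSeparatedSp (quotSp ((yon B).map (snd F G)) ((yon B).map (translation u).act)) := by
  haveI : Mono u.left := inferInstance
  haveI : Mono u := Over.mono_of_mono_left u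
  let π := quotSpπ ((yon B).map (snd F G)) ((yon B).map (translation u).act)
  have hker := Bootstrap.isPullback_quotSp _ _ (isEqvRelSp_translation u)
  haveI : Epi π := Bootstrap.epi_quotSpπ
  haveI : Sheaf.IsLocallySurjective π := (Sheaf.isLocallySurjective_iff_epi _).2 inferInstance
  let β : (yon B).obj (G ⊗ G) ⟶ _ ⨯ _ := Limits.prod.lift ((yon B).map (fst G G) ≫ π) ((yon B).map (snd G G) ≫ π)
  haveI : Sheaf.IsLocallySurjective β := by
    constructor
    intro U ξ
    let x : (yon B).obj U ⟶ _ := (J B).uliftYonedaEquiv.symm ξ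
    refine (J B).superset_covering ?_ ((J B).intersection_covering
      (Presheaf.imageSieve_mem (J B) π.hom (U := Opposite.op U) ((J B).uliftYonedaEquiv (x ≫ Limits.prod.fst)))
      (Presheaf.imageSieve_mem (J B) π.hom (U := Opposite.op U) ((J B).uliftYonedaEquiv (x ≫ Limits.prod.snd))))
    rintro V i ⟨⟨a, ha⟩, ⟨b, hb⟩⟩
    obtain ⟨a', ha'⟩ := (yon B).map_surjective ((J B).uliftYonedaEquiv.symm a)
    obtain ⟨b', hb'⟩ := (yon B).map_surjective ((J B).uliftYonedaEquiv.symm b)
    have hA : (yon B).map a' ≫ π = (yon B).map i ≫ x ≫ Limits.prod.fst := by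
      apply (J B).uliftYonedaEquiv.injective
      rw [uliftYonedaEquiv_comp', ha', Equiv.apply_symm_apply, ← GrothendieckTopology.uliftYonedaEquiv_naturality]
      exact ha
    have hB : (yon B).map b' ≫ π = (yon B).map i ≫ x ≫ Limits.prod.snd := by
      apply (J B).uliftYonedaEquiv.injective
      rw [uliftYonedaEquiv_comp', hb', Equiv.apply_symm_apply, ← GrothendieckTopology.uliftYonedaEquiv_naturality]
      exact hb
    have hAB : (yon B).map (lift a' b') ≫ β = (yon B).map i ≫ x := by
      apply Limits.prod.hom_ext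
      · rw [Category.assoc, Limits.prod.lift_fst, ← Category.assoc, ← Functor.map_comp, lift_fst, hA, Category.assoc]
      · rw [Category.assoc, Limits.prod.lift_snd, ← Category.assoc, ← Functor.map_comp, lift_snd, hB, Category.assoc]
    refine ⟨(J B).uliftYonedaEquiv ((yon B).map (lift a' b')), ?_⟩
    rw [← uliftYonedaEquiv_comp', hAB, ← GrothendieckTopology.uliftYonedaEquiv_naturality]
    simp [x]
  refine repWith_of_isLocallySurjective (b := β) (b' := (yon B).map (translation u).act ≫ π)
    (a' := (yon B).map (lift (translation u).act (snd F G))) hQ.diag ?_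
    ((repWith_yon_iff _).2 (isClosedImmersion_pair u))
  refine isPullback_of_points ?_ fun T c d hcd => ?_
  · apply Limits.prod.hom_ext
    · simp only [β, Category.assoc, prod.lift_fst, Category.comp_id]
      rw [← Functor.map_comp_assoc, lift_fst]
    · simp only [β, Category.assoc, prod.lift_snd, Category.comp_id]
      rw [← Functor.map_comp_assoc, lift_snd]
      exact (quotSp_condition ((yon B).map (snd F G)) ((yon B).map (translation u).act)).symm
  · obtain ⟨d, rfl⟩ := (yon B).map_surjective d
    have h1 : c = (yon B).map (d ≫ fst G G) ≫ π := by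
      simpa [β, Functor.map_comp] using hcd =≫ Limits.prod.fst
    have h2 : c = (yon B).map (d ≫ snd G G) ≫ π := by
      simpa [β, Functor.map_comp] using hcd =≫ Limits.prod.snd
    obtain ⟨r, hr⟩ := (yon B).map_surjective (hker.lift _ _ (h1.symm.trans h2))
    have e1 : r ≫ (translation u).act = d ≫ fst G G :=
      (yon B).map_injective (by rw [Functor.map_comp, hr, hker.lift_fst])
    have e2 : r ≫ snd F G = d ≫ snd G G :=
      (yon B).map_injective (by rw [Functor.map_comp, hr, hker.lift_snd])
    refine ⟨(yon B).map r, ⟨?_, ?_⟩, fun z hz => ?_⟩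
    · rw [← Functor.map_comp_assoc, e1, ← h1]
    · rw [← Functor.map_comp]
      congr 1
      apply CartesianMonoidalCategory.hom_ext
      · rw [Category.assoc, lift_fst, e1]
      · rw [Category.assoc, lift_snd, e2]
    · obtain ⟨z, rfl⟩ := (yon B).map_surjective z
      have e := hz.2
      rw [← Functor.map_comp] at e
      have e' := (yon B).map_injective e
      refine hker.hom_ext ?_ ?_
      · rw [← Functor.map_comp, ← Functor.map_comp, e1, ← e', Category.assoc, lift_fst]
      · rw [← Functor.map_comp, ← Functor.map_comp, e2, ← e', Category.assoc, lift_snd]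

/-- a quotient scheme lives over the base -/
theorem exists_over_of_isPullback [Mono u] {Y : Scheme.{u}} (p : G.left ⟶ Y) [Surjective p] [Flat p]
    [LocallyOfFinitePresentation p]
    (h : IsPullback (translation u).act.left (snd F G).left p p) :
    ∃ (X : Over B) (q : G ⟶ X), Surjective q.left ∧ Flat q.left ∧ LocallyOfFinitePresentation q.left ∧
      IsPullback ((u ▷ G) ≫ μ[G]) (snd F G) q q := by
  have hm : ∀ {Z : Scheme.{u}} (g₁ g₂ : Z ⟶ G.left), g₁ ≫ p = g₂ ≫ p → g₁ ≫ G.hom = g₂ ≫ G.hom := by
    intro Z g₁ g₂ e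
    rw [← h.lift_fst g₁ g₂ e, Category.assoc, Over.w, ← Over.w (snd F G), h.lift_snd_assoc]
  let X : Over B := Over.mk (EffectiveEpi.desc p G.hom hm)
  let q : G ⟶ X := Over.homMk p (EffectiveEpi.fac p G.hom hm)
  exact ⟨X, q, ‹Surjective p›, ‹Flat p›, ‹LocallyOfFinitePresentation p›, IsPullback.of_map (Over.forget B)
    (Over.OverMorphism.ext h.w) h⟩

omit [IsMonHom u] in
/-- separatedness of a quotient by a closed subgroup -/
theorem isSeparated_of_isPullback [IsMonHom u] [IsClosedImmersion u.left] {X : Over B} (q : G ⟶ X)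
    [Surjective q.left] [Flat q.left] [LocallyOfFinitePresentation q.left]
    (h : IsPullback ((u ▷ G) ≫ μ[G]) (snd F G) q q) : IsSeparated X.hom := by
  have hk : IsPullback ((u ▷ G) ≫ μ[G]).left (snd F G).left q.left q.left := h.map (Over.forget B)
  haveI := isClosedImmersion_pair u
  have hsq := pullback_map_diagonal_isPullback q.left q.left X.hom
  have hcov : (@Surjective ⊓ @Flat ⊓ @LocallyOfFinitePresentation : MorphismProperty Scheme.{u})
      (pullback.map (q.left ≫ X.hom) (q.left ≫ X.hom) X.hom X.hom q.left q.left (𝟙 B)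
        (Category.comp_id _) (Category.comp_id _)) :=
    ⟨⟨MorphismProperty.pullbackMap (P := @Surjective) (inferInstanceAs (Surjective q.left)) (inferInstanceAs (Surjective q.left)) rfl rfl,
      MorphismProperty.pullbackMap (P := @Flat) (inferInstanceAs (Flat q.left)) (inferInstanceAs (Flat q.left)) rfl rfl⟩,
      MorphismProperty.pullbackMap (P := @LocallyOfFinitePresentation) (inferInstanceAs (LocallyOfFinitePresentation q.left)) (inferInstanceAs (LocallyOfFinitePresentation q.left)) rfl rfl⟩
  refine ⟨MorphismProperty.of_isPullback_of_descendsAlong (P := @IsClosedImmersion) hsq.flip hcov ?_⟩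
  let ψ := hk.isoPullback
  let j : (G ⊗ G).left ≅ pullback (q.left ≫ X.hom) (q.left ≫ X.hom) :=
    pullback.congrHom (Over.w q).symm (Over.w q).symm
  have e : ψ.hom ≫ pullback.map q.left q.left (q.left ≫ X.hom) (q.left ≫ X.hom) (𝟙 _) (𝟙 _) X.hom
      (Category.id_comp _).symm (Category.id_comp _).symm =
      (lift ((u ▷ G) ≫ μ[G]) (snd F G)).left ≫ j.hom := by
    apply pullback.hom_ext
    · simp only [j, ψ, Category.assoc, pullback.congrHom_hom, pullback.lift_fst, Category.comp_id]
      rw [IsPullback.isoPullback_hom_fst]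
      exact (congrArg CommaMorphism.left (lift_fst ((u ▷ G) ≫ μ[G]) (snd F G))).symm
    · simp only [j, ψ, Category.assoc, pullback.congrHom_hom, pullback.lift_snd, Category.comp_id]
      rw [IsPullback.isoPullback_hom_snd]
      exact (congrArg CommaMorphism.left (lift_snd ((u ▷ G) ≫ μ[G]) (snd F G))).symm
  rw [← ψ.inv_hom_id_assoc (pullback.map q.left q.left (q.left ≫ X.hom) (q.left ≫ X.hom) (𝟙 _) (𝟙 _) X.hom
      (Category.id_comp _).symm (Category.id_comp _).symm), e]
  haveI : IsClosedImmersion (lift ((u ▷ G) ≫ μ[G]) (snd F G)).left := isClosedImmersion_pair u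
  infer_instance

/-- quotients by closed subgroups over a field are schemes -/
theorem exists_quotient_field {k : Type u} [Field k] {F G : Over (Spec (CommRingCat.of k))} [GrpObj F] [GrpObj G]
    [LocallyOfFiniteType F.hom] [LocallyOfFiniteType G.hom] (u : F ⟶ G) [IsMonHom u] [IsClosedImmersion u.left] :
    ∃ (Y : Scheme.{u}) (p : G.left ⟶ Y), Surjective p ∧ Flat p ∧ LocallyOfFinitePresentation p ∧
      IsPullback (translation u).act.left (snd F G).left p p := by
  let B := Spec (CommRingCat.of k)
  haveI : Mono u.left := inferInstance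
  haveI : Mono u := Over.mono_of_mono_left u
  let s' := (yon B).map (snd F G)
  let t' := (yon B).map (translation u).act
  have heqv := isEqvRelSp_translation u
  haveI : Flat (snd F G).left := inferInstanceAs (Flat (pullback.snd F.hom G.hom))
  haveI : LocallyOfFinitePresentation (snd F G).left :=
    inferInstanceAs (LocallyOfFinitePresentation (pullback.snd F.hom G.hom))
  have hact : (translation u).act.left = (GrpAct.actShear (translation u)).hom.left ≫ (snd F G).left := by
    rw [← Over.comp_left]
    simp [GrpAct.actShear]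
  haveI : IsIso (GrpAct.actShear (translation u)).hom.left :=
    ((Over.forget B).mapIso (GrpAct.actShear (translation u))).isIso_hom
  have hs : LocP @Flat s' ∧ LocP @LocallyOfFinitePresentation s' :=
    ⟨locP_yon_map etST_flat _ inferInstance, locP_yon_map etST_lfp _ inferInstance⟩
  have ht : LocP @Flat t' ∧ LocP @LocallyOfFinitePresentation t' :=
    ⟨locP_yon_map etST_flat _ (by rw [hact]; infer_instance), locP_yon_map etST_lfp _ (by rw [hact]; infer_instance)⟩
  have hRs := IsAlgSpace.yon_obj (F ⊗ G)
  have hUs := IsAlgSpace.yon_obj G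
  have hQ : IsAlgSpace (quotSp s' t') := S10102.result B _ _ hRs hUs s' t' heqv hs ht
  let π := quotSpπ s' t'
  haveI : Epi π := Bootstrap.epi_quotSpπ
  have hπflat : LocP @Flat π := Bootstrap.locP_quotSpπ _ etST_flat hRs hUs heqv hQ hs.1
  have hπlfp : LocP @LocallyOfFinitePresentation π := Bootstrap.locP_quotSpπ _ etST_lfp hRs hUs heqv hQ hs.2
  have hker : IsPullback t' s' π π := Bootstrap.isPullback_quotSp s' t' heqv
  obtain ⟨W, ⟨φ⟩⟩ := exists_scheme_of_homogeneous G hQ (isSeparatedSp_quot_translation u hQ) π
    Bootstrap.isSurjectiveMor_quotSpπ hπflat hπlfp fun T a b g hab => by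
      obtain ⟨r, hr⟩ := (yon B).map_surjective (hker.lift _ _ hab)
      have e1 : r ≫ (translation u).act = a := (yon B).map_injective (by rw [Functor.map_comp, hr, hker.lift_fst])
      have e2 : r ≫ snd F G = b := (yon B).map_injective (by rw [Functor.map_comp, hr, hker.lift_snd])
      have e3 : lift (r ≫ fst F G) b ≫ (translation u).act = a := by
        rw [← e1, ← e2, ← comp_lift_assoc, lift_fst_snd, Category.id_comp]
      rw [← translation_mul_right u (g := g) e3, Functor.map_comp, Category.assoc]
      have e4 : (yon B).map (b * g) = (yon B).map (lift (r ≫ fst F G) (b * g)) ≫ s' := by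
        rw [← Functor.map_comp, lift_snd]
      rw [e4, Category.assoc]
      exact congrArg (_ ≫ ·) (quotSp_condition s' t').symm
  obtain ⟨p, hp⟩ := (yon B).map_surjective (π ≫ φ.hom)
  have comm : 𝟙 ((yon B).obj G) ≫ π = (yon B).map p ≫ φ.inv := by
    rw [hp, Category.assoc, Iso.hom_inv_id, Category.comp_id, Category.id_comp]
  have hφ : RepWith @Etale φ.inv := repWith_of_isIso _
  refine ⟨W.left, p.left, ⟨fun w => ?_⟩, hπflat (𝟙 _) φ.inv p (repWith_id _ G) hφ comm,
    hπlfp (𝟙 _) φ.inv p (repWith_id _ G) hφ comm, ?_⟩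
  · haveI : Sheaf.IsLocallySurjective π := (Sheaf.isLocallySurjective_iff_epi _).2 inferInstance
    obtain ⟨W', g, l, _, hgs, _, hl⟩ := exists_fppf_lift π φ.inv
    obtain ⟨l, rfl⟩ := (yon B).map_surjective l
    have : l ≫ p = g := (yon B).map_injective (by
      rw [Functor.map_comp, hp, reassoc_of% hl, Iso.inv_hom_id, Category.comp_id])
    obtain ⟨z, hz⟩ := g.left.surjective w
    refine ⟨l.left z, ?_⟩
    show (l.left ≫ p.left) z = w
    rw [← Over.comp_left, this]
    exact hz
  · have h' : IsPullback t' s' (π ≫ φ.hom) (π ≫ φ.hom) :=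
      hker.of_iso (Iso.refl _) (Iso.refl _) (Iso.refl _) φ (by simp) (by simp) (by simp) (by simp)
    rw [← hp] at h'
    exact isPullback_yon_iff.1 h'

open scoped CategoryTheory.Obj in
/-- quotients by flat closed subgroups over a base with a single point -/
theorem exists_quotient_point {A k : Type u} [CommRing A] [Field k] (φ : A →+* k) (hφ : Function.Surjective φ)
    [Subsingleton (Spec (CommRingCat.of A))] [IsNoetherianRing A]
    {F G : Over (Spec (CommRingCat.of A))} [GrpObj F] [GrpObj G] [Flat F.hom] [LocallyOfFiniteType F.hom]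
    [LocallyOfFiniteType G.hom] (u : F ⟶ G) [IsMonHom u] [IsClosedImmersion u.left] :
    ∃ (X : Over (Spec (CommRingCat.of A))) (q : G ⟶ X), Surjective q.left ∧ Flat q.left ∧
      LocallyOfFinitePresentation q.left ∧ IsPullback ((u ▷ G) ≫ μ[G]) (snd F G) q q ∧ IsSeparated X.hom ∧
      LocallyOfFiniteType X.hom := by
  let B := Spec (CommRingCat.of A)
  let jj : Spec (CommRingCat.of k) ⟶ B := Spec.map (CommRingCat.ofHom φ)
  haveI : IsClosedImmersion jj := IsClosedImmersion.spec_of_surjective _ hφ
  haveI : Surjective jj := ⟨fun x => ⟨IsLocalRing.closedPoint k, Subsingleton.elim _ _⟩⟩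
  haveI : Mono u.left := inferInstance
  haveI : Mono u := Over.mono_of_mono_left u
  let Φ := Over.pullback jj
  let u' := Φ.map u
  haveI : IsClosedImmersion u'.left :=
    MorphismProperty.of_isPullback (P := @IsClosedImmersion) (GrpLoc.isPullback_bc jj u) inferInstance
  haveI : LocallyOfFiniteType (Φ.obj F).hom := inferInstanceAs (LocallyOfFiniteType (pullback.snd F.hom jj))
  haveI : LocallyOfFiniteType (Φ.obj G).hom := inferInstanceAs (LocallyOfFiniteType (pullback.snd G.hom jj))
  obtain ⟨Y₀, p₀, _, _, _, h₀⟩ := exists_quotient_field u'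
  let a := translation u
  let Gd := GrpAct.groupoid a
  haveI : LocallyOfFinitePresentation F.hom := inferInstance
  haveI : Flat Gd.s := inferInstanceAs (Flat (pullback.snd F.hom G.hom))
  haveI : LocallyOfFinitePresentation Gd.s :=
    inferInstanceAs (LocallyOfFinitePresentation (pullback.snd F.hom G.hom))
  have hact : a.act.left = (GrpAct.actShear a).hom.left ≫ (snd F G).left := by
    rw [← Over.comp_left]
    simp [GrpAct.actShear]
  haveI : IsIso (GrpAct.actShear a).hom.left := ((Over.forget B).mapIso (GrpAct.actShear a)).isIso_hom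
  haveI : Flat Gd.t := by
    show Flat a.act.left
    rw [hact]
    exact MorphismProperty.comp_mem _ _ _ inferInstance ‹Flat Gd.s›
  haveI : LocallyOfFinitePresentation Gd.t := by
    show LocallyOfFinitePresentation a.act.left
    rw [hact]
    exact MorphismProperty.comp_mem _ _ _ inferInstance ‹LocallyOfFinitePresentation Gd.s›
  haveI : Mono Gd.j := by
    haveI := isClosedImmersion_pair u
    have e : Gd.j = (lift a.act (snd F G)).left := by
      apply pullback.hom_ext
      · exact (pullback.lift_fst _ _ _).trans (congrArg CommaMorphism.left (lift_fst a.act (snd F G))).symm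
      · exact (pullback.lift_snd _ _ _).trans (congrArg CommaMorphism.left (lift_snd a.act (snd F G))).symm
    rw [e]
    exact inferInstance
  let c₀ : (Φ.obj G).left ⟶ Gd.U := pullback.fst G.hom jj
  haveI : IsClosedImmersion c₀ := inferInstanceAs (IsClosedImmersion (pullback.fst G.hom jj))
  haveI : Surjective c₀ := inferInstanceAs (Surjective (pullback.fst G.hom jj))
  have hsS : IsPullback (pullback.fst (F ⊗ G).hom jj) (Φ.map (snd F G)).left Gd.s c₀ :=
    GrpLoc.isPullback_bc jj (snd F G)
  have hsT : IsPullback (pullback.fst (F ⊗ G).hom jj) (Φ.map a.act).left Gd.t c₀ :=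
    GrpLoc.isPullback_bc jj a.act
  let ψ := hsS.isoPullback.symm ≪≫ hsT.isoPullback
  have hψ : ψ.hom ≫ pullback.fst Gd.t c₀ = pullback.fst Gd.s c₀ := by
    simp [ψ]
  let e := Functor.Monoidal.μIso Φ F G
  have es : e.hom ≫ Φ.map (snd F G) = snd (Φ.obj F) (Φ.obj G) := Functor.Monoidal.μ_snd _ _ _
  have et : e.hom ≫ Φ.map a.act = (translation u').act := by
    show Functor.LaxMonoidal.μ Φ F G ≫ Φ.map ((u ▷ G) ≫ μ[G]) = (u' ▷ Φ.obj G) ≫ μ[Φ.obj G]
    rw [Functor.map_comp, ← Functor.LaxMonoidal.μ_natural_left_assoc, Functor.obj.μ_def]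
  let el : (Φ.obj F ⊗ Φ.obj G).left ≅ (Φ.obj (F ⊗ G)).left := (Over.forget _).mapIso e
  have hR₀ : IsPullback (ψ.hom ≫ pullback.snd Gd.t c₀) (pullback.snd Gd.s c₀) p₀ p₀ := by
    refine h₀.of_iso (el ≪≫ hsS.isoPullback) (Iso.refl _) (Iso.refl _) (Iso.refl _) ?_ ?_ ?_ ?_
    · have e2 : el.hom ≫ (Φ.map a.act).left = (translation u').act.left := by
        rw [← et]; rfl
      simp [ψ, e2]
    · have e2 : el.hom ≫ (Φ.map (snd F G)).left = (snd (Φ.obj F) (Φ.obj G)).left := by
        rw [← es]; rfl
      simp [e2]
    · simp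
    · simp
  obtain ⟨Y, p, _, _, _, hY⟩ := exists_quotient_of_thick Gd c₀ ψ hψ p₀ hR₀
  obtain ⟨X, q, hqs, hqf, hqp, hX⟩ := exists_over_of_isPullback u (p : G.left ⟶ Y) hY
  haveI := hqs; haveI := hqf; haveI := hqp
  haveI : LocallyOfFiniteType (q.left ≫ X.hom) := by rw [Over.w q]; infer_instance
  exact ⟨X, q, hqs, hqf, hqp, hX, isSeparated_of_isPullback u q hX, FppfSource.lft q.left X.hom⟩

end Groth.Agent.MonoFactor
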