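import Groth.Agent.GrpAct.PointAlg
import Groth.Agent.S7549
import Mathlib.AlgebraicGeometry.Morphisms.FinitePresentation
import Mathlib.CategoryTheory.Comma.Over.Pullback

/-!
# Points over an algebraically closed field
-/

universe u

open CategoryTheory CategoryTheory.Limits AlgebraicGeometry

namespace Groth.Agent.MonoFactor

/-- a morphism of finite type whose range contains all closed points is surjective -/
theorem surjective_of_closedPoints {X Y : Scheme.{u}} (f : X ⟶ Y) [LocallyOfFinitePresentation f]
    [QuasiCompact f] [JacobsonSpace Y] [CompactSpace Y] [QuasiSeparatedSpace Y]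
    (h : ∀ y ∈ closedPoints Y, y ∈ Set.range f) : Surjective f := by
  have hc : Topology.IsConstructible (f '' Set.univ) :=
    f.isConstructible_image Topology.IsConstructible.univ
  have hsub := ((Groth.Agent.S7549.result (X := Y)).2.2.1 Set.univ (f '' Set.univ)
    Topology.IsConstructible.univ hc).1 fun y _ => by
      obtain ⟨x, hx⟩ := h y.1 y.2
      exact ⟨x, trivial, hx⟩
  exact ⟨fun y => by
    obtain ⟨x, -, hx⟩ := hsub (Set.mem_univ y)
    exact ⟨x, hx⟩⟩

/-- points with values in an algebraically closed field lift along surjections of finite type -/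
theorem exists_lift_algClosed_point {k K : Type u} [Field k] [Field K] [Algebra k K] [IsAlgClosed K]
    {G Q : Over (Spec (CommRingCat.of k))} [LocallyOfFiniteType G.hom] (f : G ⟶ Q) [Surjective f.left]
    (y : Over.mk (Spec.map (CommRingCat.ofHom (algebraMap k K))) ⟶ Q) :
    ∃ g : Over.mk (Spec.map (CommRingCat.ofHom (algebraMap k K))) ⟶ G, g ≫ f = y := by
  have : LocallyOfFiniteType (f.left ≫ Q.hom) := by rw [Over.w]; infer_instance
  have : LocallyOfFiniteType f.left := locallyOfFiniteType_of_comp f.left Q.hom
  let yl : Spec (CommRingCat.of K) ⟶ Q.left := y.left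
  let W := pullback f.left yl
  have : LocallyOfFiniteType (pullback.snd f.left yl) := MorphismProperty.pullback_snd _ _ inferInstance
  have : Surjective (pullback.snd f.left yl) := MorphismProperty.pullback_snd _ _ inferInstance
  have : JacobsonSpace W := LocallyOfFiniteType.jacobsonSpace (pullback.snd f.left yl)
  obtain ⟨t⟩ : Nonempty (Spec (CommRingCat.of K)) := inferInstance
  obtain ⟨w₀, -⟩ := (pullback.snd f.left yl).surjective t
  obtain ⟨w, -, hw⟩ := nonempty_inter_closedPoints (Z := (Set.univ : Set W)) ⟨w₀, trivial⟩
    isClosed_univ.isLocallyClosed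
  let W' : Over (Spec (CommRingCat.of K)) := Over.mk (pullback.snd f.left yl)
  have : LocallyOfFiniteType W'.hom := ‹LocallyOfFiniteType (pullback.snd f.left yl)›
  obtain ⟨p, -⟩ := GrpAct.exists_point (K := K) (Z := W') w hw
  have hp : p.left ≫ pullback.snd f.left yl = 𝟙 _ := by
    refine (Over.w p).trans ?_
    change Spec.map (CommRingCat.ofHom (algebraMap K K)) = _
    exact Spec.map_id _
  have hg : (p.left ≫ pullback.fst f.left yl) ≫ f.left = y.left := by
    rw [Category.assoc, pullback.condition, reassoc_of% hp]
  exact ⟨Over.homMk (p.left ≫ pullback.fst f.left yl)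
    (by rw [← Over.w f, ← Category.assoc, hg]; exact Over.w y), Over.OverMorphism.ext hg⟩

end Groth.Agent.MonoFactor
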