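import Groth.Agent.S10102
import Groth.Agent.S10613
import Groth.Agent.Bootstrap.QuotSp
import Groth.Agent.FppfSource.AlgSp
import Groth.Agent.AlgSpLib.Singleton
import Mathlib

/-!
A locally finitely presented morphism of schemes with flat kernel pair factors as a flat covering
followed by a monomorphism.
-/

set_option autoImplicit false
set_option linter.style.haveILetI false
set_option backward.isDefEq.respectTransparency false

universe u

open CategoryTheory CategoryTheory.Limits AlgebraicGeometry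
open Groth.Agent.AlgSpLib AlgSp

namespace Groth.Agent.MonoFactor

theorem exists_factor' {X Y : Scheme.{u}} (f : X ⟶ Y) [LocallyOfFiniteType f]
    (hfl : Flat (pullback.fst f f)) (hfp : LocallyOfFinitePresentation (pullback.fst f f)) :
    ∃ (X' : Scheme.{u}) (f' : X ⟶ X') (f'' : X' ⟶ Y),
      Surjective f' ∧ Flat f' ∧ LocallyOfFinitePresentation f' ∧ Mono f'' ∧ f' ≫ f'' = f := by
  let U : Over Y := Over.mk f
  let R : Over Y := Over.mk (pullback.fst f f ≫ f)
  let t : R ⟶ U := Over.homMk (pullback.fst f f) rfl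
  let s : R ⟶ U := Over.homMk (pullback.snd f f) pullback.condition.symm
  let hu := (yon Y).obj U
  let s' := (yon Y).map s
  let t' := (yon Y).map t
  have hpairs : ∀ (T : Over Y) (a b : (yon Y).obj T ⟶ hu), ∃ r : (yon Y).obj T ⟶ (yon Y).obj R,
      r ≫ t' = a ∧ r ≫ s' = b := by
    intro T a b
    obtain ⟨a, rfl⟩ := (yon Y).map_surjective a
    obtain ⟨b, rfl⟩ := (yon Y).map_surjective b
    have e : a.left ≫ f = b.left ≫ f := (Over.w a).trans (Over.w b).symm
    let r : T ⟶ R := Over.homMk (pullback.lift a.left b.left e) (by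
      change pullback.lift a.left b.left e ≫ pullback.fst f f ≫ f = T.hom
      rw [pullback.lift_fst_assoc]
      exact Over.w a)
    exact ⟨(yon Y).map r, by rw [← Functor.map_comp]; congr 1; ext; exact pullback.lift_fst _ _ _,
      by rw [← Functor.map_comp]; congr 1; ext; exact pullback.lift_snd _ _ _⟩
  have heqv : IsEqvRelSp s' t' := by
    refine ⟨fun T r r' ht hs => ?_, fun T => ⟨fun a => hpairs T a a, fun {a b} _ => hpairs T b a,
      fun {a b c} _ _ => hpairs T a c⟩⟩
    obtain ⟨r, rfl⟩ := (yon Y).map_surjective r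
    obtain ⟨r', rfl⟩ := (yon Y).map_surjective r'
    rw [← Functor.map_comp, ← Functor.map_comp] at ht hs
    congr 1
    ext : 1
    exact pullback.hom_ext (congrArg CommaMorphism.left ((yon Y).map_injective ht))
      (congrArg CommaMorphism.left ((yon Y).map_injective hs))
  haveI : Flat t.left := hfl
  haveI : Flat s.left := by
    change Flat (pullback.snd f f)
    rw [← pullbackSymmetry_hom_comp_fst]
    infer_instance
  haveI : LocallyOfFinitePresentation t.left := hfp
  haveI : LocallyOfFinitePresentation s.left := by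
    change LocallyOfFinitePresentation (pullback.snd f f)
    rw [← pullbackSymmetry_hom_comp_fst]
    infer_instance
  have hs : LocP @Flat s' ∧ LocP @LocallyOfFinitePresentation s' :=
    ⟨locP_yon_map etST_flat s inferInstance, locP_yon_map etST_lfp s inferInstance⟩
  have ht : LocP @Flat t' ∧ LocP @LocallyOfFinitePresentation t' :=
    ⟨locP_yon_map etST_flat t inferInstance, locP_yon_map etST_lfp t inferInstance⟩
  have hRs := IsAlgSpace.yon_obj R
  have hUs := IsAlgSpace.yon_obj U
  have hQ : IsAlgSpace (quotSp s' t') := S10102.result Y _ _ hRs hUs s' t' heqv hs ht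
  let π := quotSpπ s' t'
  let M : Over Y := Over.mk (𝟙 Y)
  let q : U ⟶ M := Over.homMk f (Category.comp_id f)
  have hw : s' ≫ (yon Y).map q = t' ≫ (yon Y).map q := by
    rw [← Functor.map_comp, ← Functor.map_comp]
    congr 1
    ext
    exact pullback.condition.symm
  let τ : quotSp s' t' ⟶ (yon Y).obj M := quotSpDesc ((yon Y).map q) hw
  haveI : Epi π := Bootstrap.epi_quotSpπ
  haveI : Sheaf.IsLocallySurjective π := (Sheaf.isLocallySurjective_iff_epi _).2 inferInstance
  have huniq : ∀ (T : Over Y) (a b : (yon Y).obj T ⟶ quotSp s' t'), a = b := by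
    intro T a b
    obtain ⟨A, g, α, hg₁, hg₂, hg₃, hα⟩ := exists_fppf_lift π a
    obtain ⟨B, g', β, hg'₁, hg'₂, hg'₃, hβ⟩ := exists_fppf_lift π ((yon Y).map g ≫ b)
    haveI := isLocallySurjective_yon_map g
    haveI : Epi ((yon Y).map g) := (Sheaf.isLocallySurjective_iff_epi _).1 inferInstance
    haveI := isLocallySurjective_yon_map g'
    haveI : Epi ((yon Y).map g') := (Sheaf.isLocallySurjective_iff_epi _).1 inferInstance
    obtain ⟨r, hr₁, hr₂⟩ := hpairs B ((yon Y).map g' ≫ α) β
    rw [← cancel_epi ((yon Y).map g), ← cancel_epi ((yon Y).map g'), ← hβ, ← hr₂]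
    rw [← hα, ← Category.assoc, ← hr₁, Category.assoc, Category.assoc]
    exact congrArg (r ≫ ·) (quotSp_condition s' t').symm
  haveI : Mono τ := ⟨fun a b _ => (J Y).hom_ext_uliftYoneda.{u + 1} fun T x => huniq T _ _⟩
  have hπflat : LocP @Flat π := Bootstrap.locP_quotSpπ _ etST_flat hRs hUs heqv hQ hs.1
  have hπlfp : LocP @LocallyOfFinitePresentation π := Bootstrap.locP_quotSpπ _ etST_lfp hRs hUs heqv hQ hs.2
  let Qs : Space Y := ⟨quotSp s' t', hQ⟩
  let Ys : Space Y := (ofScheme Y).obj M
  let Us : Space Y := (ofScheme Y).obj U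
  let fπ : Us ⟶ Qs := ObjectProperty.homMk π
  let fτ : Qs ⟶ Ys := ObjectProperty.homMk τ
  have hlft : LocP @LocallyOfFiniteType τ := by
    refine FppfSource.locP_of_fppf_comp _
      (fun _ _ _ k h h1 h2 h3 h4 => @FppfSource.lft _ _ _ k h h1 h2 h3 h4) hUs hQ π τ
      Bootstrap.isSurjectiveMor_quotSpπ hπflat hπlfp ?_
    rw [show π ≫ τ = (yon Y).map q from quotSpπ_desc _ _ _ _]
    exact locP_yon_map etST_lft q (show LocallyOfFiniteType f from inferInstance)
  obtain ⟨-, hsep, hqf⟩ := (S10613.result fτ).2.2.2 ⟨hlft, show Mono τ from inferInstance⟩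
  obtain ⟨W, ⟨φ⟩⟩ := LqfRep.exists_iso_yon_of_lqf_separated hQ τ hqf hsep
  obtain ⟨f', hf'⟩ := (yon Y).map_surjective (π ≫ φ.hom)
  have comm : 𝟙 ((yon Y).obj U) ≫ π = (yon Y).map f' ≫ φ.inv := by
    rw [hf', Category.assoc, Iso.hom_inv_id, Category.comp_id, Category.id_comp]
  have hφ : RepWith @Etale φ.inv := repWith_of_isIso _
  refine ⟨W.left, f'.left, W.hom, ⟨fun w => ?_⟩, hπflat (𝟙 _) φ.inv f' (repWith_id _ U) hφ comm,
    hπlfp (𝟙 _) φ.inv f' (repWith_id _ U) hφ comm, ⟨fun {T} a b hab => ?_⟩, Over.w f'⟩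
  · obtain ⟨W', g, l, _, hgs, _, hl⟩ := exists_fppf_lift π φ.inv
    obtain ⟨l, rfl⟩ := (yon Y).map_surjective l
    have : l ≫ f' = g := (yon Y).map_injective (by
      rw [Functor.map_comp, hf', reassoc_of% hl, Iso.inv_hom_id, Category.comp_id])
    obtain ⟨z, hz⟩ := g.left.surjective w
    refine ⟨l.left z, ?_⟩
    show (l.left ≫ f'.left) z = w
    rw [← Over.comp_left, this]
    exact hz
  · let T' : Over Y := Over.mk (a ≫ W.hom)
    let a' : T' ⟶ W := Over.homMk a rfl
    let b' : T' ⟶ W := Over.homMk b hab.symm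
    have : (yon Y).map a' = (yon Y).map b' := by
      rw [← cancel_mono φ.inv]
      exact huniq T' _ _
    exact congrArg CommaMorphism.left ((yon Y).map_injective this)

theorem exists_factor {X Y : Scheme.{u}} (f : X ⟶ Y) [LocallyOfFinitePresentation f]
    (hfl : Flat (pullback.fst f f)) :
    ∃ (X' : Scheme.{u}) (f' : X ⟶ X') (f'' : X' ⟶ Y),
      Surjective f' ∧ Flat f' ∧ LocallyOfFinitePresentation f' ∧ Mono f'' ∧ f' ≫ f'' = f :=
  exists_factor' f hfl inferInstance

end Groth.Agent.MonoFactor
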