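import Groth.Agent.MonoFactor.Orbit
import Groth.Agent.Grpd.FlatComp
import Mathlib

/-!
The image of the graph of an action with flat stabiliser.
-/

set_option autoImplicit false
set_option linter.style.haveILetI false
set_option backward.isDefEq.respectTransparency false
set_option backward.isDefEq.respectTransparency.types false

universe u

open CategoryTheory CategoryTheory.Limits AlgebraicGeometry MonoidalCategory CartesianMonoidalCategory MonObj GrpObj

noncomputable section

namespace Groth.Agent.MonoFactor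

variable {S : Scheme.{u}} {G X : Over S} [GrpObj G] (a : AlgGrp.Action G X)

/-- the graph of the action -/
abbrev actGraph : G ⊗ X ⟶ X ⊗ X := lift a.act (snd G X)

/-- the diagonal section -/
abbrev unitSection : X ⟶ G ⊗ X := lift (1 : X ⟶ G) (𝟙 X)

theorem unitSection_comp : unitSection ≫ actGraph a = lift (𝟙 X) (𝟙 X) := by
  ext1
  · rw [Category.assoc, lift_fst, lift_fst, one_smul']
  · rw [Category.assoc, lift_snd, lift_snd, lift_snd]

theorem comp_actGraph {T : Over S} (w : T ⟶ G ⊗ X) :
    w ≫ actGraph a = lift (lift (w ≫ fst G X) (w ≫ snd G X) ≫ a.act) (w ≫ snd G X) := by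
  ext1
  · rw [Category.assoc, lift_fst, lift_fst, ← comp_lift, lift_fst_snd, Category.comp_id]
  · rw [Category.assoc, lift_snd, lift_snd]

theorem exists_factor_actGraph [LocallyOfFinitePresentation G.hom] [LocallyOfFinitePresentation X.hom]
    [LocallyOfFinitePresentation (actGraph a).left]
    [Flat (pullback.snd (actGraph a) (lift (𝟙 X) (𝟙 X))).left] :
    ∃ (Y : Over S) (ψ : G ⊗ X ⟶ Y) (τ : Y ⟶ X ⊗ X), ψ ≫ τ = actGraph a ∧
      Surjective ψ.left ∧ Flat ψ.left ∧ LocallyOfFinitePresentation ψ.left ∧ Mono τ := by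
  let d := actGraph a
  let j := pullback.fst d (lift (𝟙 X) (𝟙 X))
  let π := pullback.snd d (lift (𝟙 X) (𝟙 X))
  have hjs : j ≫ snd G X = π := by
    have h := (pullback.condition (f := d) (g := lift (𝟙 X) (𝟙 X))) =≫ snd X X
    simpa [d, j, π] using h
  have hjf : lift (j ≫ fst G X) π ≫ a.act = π := by
    have h := (pullback.condition (f := d) (g := lift (𝟙 X) (𝟙 X))) =≫ fst X X
    rw [← hjs, ← comp_lift, lift_fst_snd, Category.comp_id, hjs]
    simpa [d, j, π] using h
  haveI : Mono j := pullback.fst_of_mono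
  let P := pullback (snd G X) π
  let p₁ : P ⟶ G ⊗ X := pullback.fst (snd G X) π
  let p₂ := pullback.snd (snd G X) π
  let r : P ⟶ G ⊗ X := lift ((p₁ ≫ fst G X) * ((p₂ ≫ j) ≫ fst G X)) (p₁ ≫ snd G X)
  have hinv : ∀ {T : Over S} (x y : T ⟶ G ⊗ X), x ≫ d = y ≫ d → x ≫ snd G X = y ≫ snd G X ∧
      lift ((x ≫ fst G X)⁻¹ * (y ≫ fst G X)) (x ≫ snd G X) ≫ a.act = x ≫ snd G X := by
    intro T x y e
    rw [comp_actGraph, comp_actGraph] at e
    have e₁ := e =≫ fst X X
    have e₂ := e =≫ snd X X
    rw [lift_fst, lift_fst] at e₁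
    rw [lift_snd, lift_snd] at e₂
    refine ⟨e₂, ?_⟩
    rw [mul_smul', e₂, ← e₁, e₂, ← mul_smul', inv_mul_cancel, one_smul']
  have hsq : IsPullback p₁ r d d := by
    refine IsPullback.of_isLimit' ⟨?_⟩ (PullbackCone.IsLimit.mk _
      (fun c => pullback.lift c.fst
        (pullback.lift (lift ((c.fst ≫ fst G X)⁻¹ * (c.snd ≫ fst G X)) (c.fst ≫ snd G X)) (c.fst ≫ snd G X) (by
          rw [comp_actGraph, lift_fst, lift_snd, (hinv _ _ c.condition).2, comp_lift, Category.comp_id]))
        (by rw [pullback.lift_snd]))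
      (fun c => pullback.lift_fst _ _ _) (fun c => ?_) (fun c m hm₁ hm₂ => ?_))
    · rw [comp_actGraph, comp_actGraph, lift_fst, lift_snd, mul_smul']
      have : lift ((p₂ ≫ j) ≫ fst G X) (p₁ ≫ snd G X) ≫ a.act = p₁ ≫ snd G X := by
        rw [show p₁ ≫ snd G X = p₂ ≫ π from pullback.condition, Category.assoc, ← comp_lift, Category.assoc, hjf]
      rw [this]
    · apply CartesianMonoidalCategory.hom_ext
      · simp only [r, p₁, p₂, j, Category.assoc, lift_fst, MonObj.comp_mul, pullback.lift_fst_assoc,
          pullback.lift_snd_assoc, mul_inv_cancel_left]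
      · simp only [r, p₁, Category.assoc, lift_snd, pullback.lift_fst_assoc]
        exact (hinv _ _ c.condition).1
    · apply pullback.hom_ext
      · rw [pullback.lift_fst]; exact hm₁
      · rw [pullback.lift_snd, ← cancel_mono j, pullback.lift_fst]
        apply CartesianMonoidalCategory.hom_ext
        · rw [lift_fst, ← hm₂]
          simp only [r, Category.assoc, lift_fst, MonObj.comp_mul]
          rw [← hm₁]
          simp [p₁, p₂]
        · rw [lift_snd, Category.assoc, Category.assoc, hjs, ← hm₁, Category.assoc]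
          exact congrArg (m ≫ ·) (pullback.condition (f := snd G X) (g := π)).symm
  have hsqS : IsPullback p₁.left r.left d.left d.left := hsq.map (Over.forget S)
  have hb : IsPullback p₁.left p₂.left (snd G X).left π.left := (IsPullback.of_hasPullback (snd G X) π).map (Over.forget S)
  haveI : LocallyOfFinitePresentation ((Over.forget S).map d) := ‹LocallyOfFinitePresentation (actGraph a).left›
  haveI : LocallyOfFinitePresentation π.left := MorphismProperty.of_isPullback (P := @LocallyOfFinitePresentation)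
    ((IsPullback.of_hasPullback d (lift (𝟙 X) (𝟙 X))).map (Over.forget S)) inferInstance
  have e := hsqS.isoPullback_inv_fst
  have h1 : Flat p₁.left := MorphismProperty.of_isPullback (P := @Flat) hb.flip inferInstance
  have h2 : LocallyOfFinitePresentation p₁.left :=
    MorphismProperty.of_isPullback (P := @LocallyOfFinitePresentation) hb.flip inferInstance
  obtain ⟨Y', f', f'', hs, hf, hp, hm, hfac⟩ := exists_factor' d.left (by rw [← e]; infer_instance)
    (by rw [← e]; infer_instance)
  let Y : Over S := Over.mk (f'' ≫ (X ⊗ X).hom)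
  let ψ : G ⊗ X ⟶ Y := Over.homMk f' (by
    show f' ≫ f'' ≫ (X ⊗ X).hom = (G ⊗ X).hom
    rw [reassoc_of% hfac]
    exact Over.w d)
  let τ : Y ⟶ X ⊗ X := Over.homMk f'' rfl
  haveI : Mono τ.left := hm
  exact ⟨Y, ψ, τ, Over.OverMorphism.ext hfac, hs, hf, hp, Over.mono_of_mono_left τ⟩

end Groth.Agent.MonoFactor
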