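import Groth.Agent.FieldDesc.Group
import Groth.Agent.FppfSource.AlgSp
import Groth.Agent.AlgSpLib.SheafLemmas
import Groth.Agent.AlgSpLib.Glue
import Groth.Agent.AlgSpLib.Singleton
import Groth.Agent.GrpComp.AlgClosed
import Groth.Agent.W7OnePole.ClosedPoint
import Groth.Agent.LocNoethTop.Basic
import Mathlib

/-!
Separated algebraic spaces homogeneous under a group scheme locally of finite type over a field are schemes.
-/

set_option autoImplicit false
set_option linter.style.haveILetI false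
set_option backward.isDefEq.respectTransparency false

universe u

open CategoryTheory CategoryTheory.Limits AlgebraicGeometry MonoidalCategory CartesianMonoidalCategory MonObj GrpObj
open Groth.Agent.AlgSpLib AlgSp Groth.Agent.FieldDesc

noncomputable section

namespace Groth.Agent.MonoFactor

theorem exists_desc_epi {S : Scheme.{u}} {Z F : Sp S} {V : Over S} (π : (yon S).obj V ⟶ Z) [Epi π]
    (α : (yon S).obj V ⟶ F)
    (h : ∀ (T : Over S) (a b : T ⟶ V), (yon S).map a ≫ π = (yon S).map b ≫ π →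
      (yon S).map a ≫ α = (yon S).map b ≫ α) : ∃ β : Z ⟶ F, π ≫ β = α := by
  have hr := IsRegularEpiCategory.regularEpiOfEpi π
  have hlr : (IsRegularEpi.getStruct π).left ≫ α = (IsRegularEpi.getStruct π).right ≫ α := by
    refine (J S).hom_ext_uliftYoneda.{u + 1} fun T x => ?_
    obtain ⟨a, ha⟩ := (yon S).map_surjective (x ≫ (IsRegularEpi.getStruct π).left)
    obtain ⟨b, hb⟩ := (yon S).map_surjective (x ≫ (IsRegularEpi.getStruct π).right)
    rw [← Category.assoc, ← Category.assoc, ← ha, ← hb]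
    exact h T a b (by rw [ha, hb, Category.assoc, Category.assoc, (IsRegularEpi.getStruct π).w])
  obtain ⟨β, hβ⟩ := RegularEpi.desc' (IsRegularEpi.getStruct π) α hlr
  exact ⟨β, hβ⟩

/-- in a scheme finitely many nonempty opens all meet one affine open -/
theorem exists_affine_meeting {T : Scheme.{u}} {κ : Type*} (s : Finset κ) (O : κ → T.Opens)
    (hO : ∀ i ∈ s, (O i : Set T).Nonempty) :
    ∃ V : T.Opens, IsAffineOpen V ∧ ∀ i ∈ s, ((V : Set T) ∩ O i).Nonempty := by
  classical
  induction s using Finset.induction with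
  | empty => exact ⟨⊥, isAffineOpen_bot T, by simp⟩
  | insert i s _ ih =>
    obtain ⟨V, hV, hVs⟩ := ih fun j hj => hO j (Finset.mem_insert_of_mem hj)
    by_cases hi : ((V : Set T) ∩ O i).Nonempty
    · exact ⟨V, hV, fun j hj => (Finset.mem_insert.1 hj).elim (fun e => e ▸ hi) (hVs j)⟩
    · obtain ⟨x, hx⟩ := hO i (Finset.mem_insert_self i s)
      obtain ⟨W, hW, hxW, hWO⟩ := exists_isAffineOpen_mem_and_subset (U := O i) hx
      refine ⟨V ⊔ W, hV.sup_of_disjoint hW ?_, fun j hj => ?_⟩
      · rw [disjoint_iff]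
        refine TopologicalSpace.Opens.ext (Set.eq_empty_iff_forall_notMem.2 fun z hz => hi ?_)
        exact ⟨z, hz.1, hWO hz.2⟩
      · rcases Finset.mem_insert.1 hj with rfl | h
        · exact ⟨x, Or.inr hxW, hx⟩
        · obtain ⟨z, hz⟩ := hVs j h
          exact ⟨z, Or.inl hz.1, hz.2⟩

variable {k : Type u} [Field k]

theorem exists_scheme_of_homogeneous (G : Over (Spec (CommRingCat.of k))) [GrpObj G]
    [LocallyOfFiniteType G.hom] {X : Sp (Spec (CommRingCat.of k))} (hX : IsAlgSpace X) (hsep : IsSeparatedSp X)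
    (π : (yon _).obj G ⟶ X) [Epi π] (hπs : IsSurjectiveMor π) (hπf : LocP @Flat π)
    (hπp : LocP @LocallyOfFinitePresentation π)
    (hinv : ∀ (T : Over (Spec (CommRingCat.of k))) (a b g : T ⟶ G),
      (yon _).map a ≫ π = (yon _).map b ≫ π → (yon _).map (a * g) ≫ π = (yon _).map (b * g) ≫ π) :
    ∃ W : Over (Spec (CommRingCat.of k)), Nonempty (X ≅ (yon _).obj W) := by
  classical
  let B := Spec (CommRingCat.of k)
  have hs : IsQuasiSeparatedSp X := repWith_mono (P := @IsClosedImmersion) (Q := @QuasiCompact)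
    (fun _ _ g hg => by have : IsClosedImmersion g := hg; infer_instance) hsep
  have hdec : IsDecent X := SpQS.isDecent_of_good hX (SpQS.goodAt_of_qsDiag hX hs)
  have hG := IsAlgSpace.yon_obj G
  let hT : IsTerminal ((yon B).obj (Over.mk (𝟙 B))) := Over.mkIdTerminal.isTerminalObj (yon B)
  let pX := hT.from X
  have hpX : LocP @LocallyOfFiniteType pX := by
    refine FppfSource.locP_of_fppf_comp _
      (fun _ _ _ k h h1 h2 h3 h4 => @FppfSource.lft _ _ _ k h h1 h2 h3 h4) hG hX π pX hπs hπf hπp ?_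
    rw [hT.hom_ext (π ≫ pX) ((yon B).map (Over.homMk G.hom : G ⟶ Over.mk (𝟙 B)))]
    exact locP_yon_map etST_lft _ (show LocallyOfFiniteType G.hom from inferInstance)
  let K := AlgebraicClosure k
  let E : Over B := Ext (k := k) K
  let πK : (yon B).obj (G ⊗ E) ⟶ bc X K :=
    Limits.prod.lift ((yon B).map (fst G E) ≫ π) ((yon B).map (snd G E))
  have sqK : IsPullback ((yon B).map (fst G E)) πK π (Limits.prod.fst : bc X K ⟶ X) := by
    refine isPullback_of_points (Limits.prod.lift_fst _ _).symm fun T a b hab => ?_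
    obtain ⟨a, rfl⟩ := (yon B).map_surjective a
    obtain ⟨b₂, hb₂⟩ := (yon B).map_surjective (b ≫ Limits.prod.snd)
    refine ⟨(yon B).map (lift a b₂), ⟨by rw [← Functor.map_comp, lift_fst], ?_⟩, fun c hc => ?_⟩
    · apply Limits.prod.hom_ext
      · rw [Category.assoc, Limits.prod.lift_fst, ← Category.assoc, ← Functor.map_comp, lift_fst, hab]
      · rw [Category.assoc, Limits.prod.lift_snd, ← Functor.map_comp, lift_snd, hb₂]
    · obtain ⟨c, rfl⟩ := (yon B).map_surjective c
      congr 1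
      apply CartesianMonoidalCategory.hom_ext
      · rw [lift_fst]
        exact (yon B).map_injective (by rw [Functor.map_comp]; exact hc.1)
      · rw [lift_snd]
        refine (yon B).map_injective ?_
        rw [Functor.map_comp, hb₂, ← hc.2, Category.assoc, Limits.prod.lift_snd]
  have hbc := isAlgSpace_bc (k := k) hX K
  have hPa := IsAlgSpace.yon_obj (G ⊗ E)
  haveI : Sheaf.IsLocallySurjective π := (Sheaf.isLocallySurjective_iff_epi _).2 inferInstance
  haveI : Sheaf.IsLocallySurjective πK := isLocallySurjective_of_isPullback sqK.flip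
  haveI : Epi πK := (Sheaf.isLocallySurjective_iff_epi _).1 inferInstance
  have hKs : IsSurjectiveMor πK := isSurjectiveMor_baseChange sqK hπs
  have hKf : LocP @Flat πK := locP_baseChange etST_flat hG hX hPa hbc sqK hπf
  have hKp : LocP @LocallyOfFinitePresentation πK := locP_baseChange etST_lfp hG hX hPa hbc sqK hπp
  -- translations
  let ρ : (E ⟶ G) → ((G ⊗ E) ⟶ (G ⊗ E)) := fun g => lift (fst G E * (snd G E ≫ g)) (snd G E)
  let pt : (E ⟶ G) → (E ⟶ (G ⊗ E)) := fun g => lift g (𝟙 E)
  have hρpt : ∀ g h, pt g ≫ ρ h = pt (g * h) := fun g h => by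
    apply CartesianMonoidalCategory.hom_ext <;> simp [pt, ρ, MonObj.comp_mul]
  have hρρ : ∀ g h, ρ g ≫ ρ h = ρ (g * h) := fun g h => by
    apply CartesianMonoidalCategory.hom_ext <;> simp [ρ, MonObj.comp_mul, _root_.mul_assoc]
  have hρ1 : ρ 1 = 𝟙 (G ⊗ E) := by
    apply CartesianMonoidalCategory.hom_ext <;> simp [ρ, MonObj.comp_one]
  have hdesc : ∀ g, ∃ τ : bc X K ⟶ bc X K, πK ≫ τ = (yon B).map (ρ g) ≫ πK := fun g => by
    refine exists_desc_epi πK _ fun T a b hab => ?_
    have h2 : a ≫ snd G E = b ≫ snd G E := (yon B).map_injective (by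
      have := hab =≫ Limits.prod.snd
      simpa [πK, ← Functor.map_comp] using this)
    have h1 : (yon B).map (a ≫ fst G E) ≫ π = (yon B).map (b ≫ fst G E) ≫ π := by
      have := hab =≫ Limits.prod.fst
      simpa [πK, Functor.map_comp] using this
    rw [← Category.assoc, ← Category.assoc, ← Functor.map_comp, ← Functor.map_comp]
    apply Limits.prod.hom_ext
    · simp only [πK, Category.assoc, Limits.prod.lift_fst]
      rw [← Category.assoc, ← Category.assoc, ← Functor.map_comp, ← Functor.map_comp]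
      simp only [ρ, Category.assoc, lift_fst, MonObj.comp_mul]
      rw [← Category.assoc, ← Category.assoc, h2]
      exact hinv T _ _ _ h1
    · simp only [πK, Category.assoc, Limits.prod.lift_snd]
      rw [← Functor.map_comp, ← Functor.map_comp]
      rw [Category.assoc, Category.assoc, show ρ g ≫ snd G E = snd G E from lift_snd _ _]
      rw [h2]
  choose τ hτ using hdesc
  have hττ : ∀ g, τ g ≫ τ g⁻¹ = 𝟙 _ := fun g => by
    rw [← cancel_epi πK, Category.comp_id, reassoc_of% (hτ g), hτ, ← Category.assoc, ← Functor.map_comp,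
      hρρ, mul_inv_cancel, hρ1, CategoryTheory.Functor.map_id, Category.id_comp]
  have hτiso : ∀ g, IsIso (τ g) := fun g =>
    ⟨τ g⁻¹, hττ g, by simpa using hττ g⁻¹⟩
  -- closed points are rational
  haveI : LocallyOfFiniteType (snd G E).left :=
    inferInstanceAs (LocallyOfFiniteType (pullback.snd G.hom E.hom))
  haveI : JacobsonSpace (G ⊗ E).left :=
    @LocallyOfFiniteType.jacobsonSpace _ (Spec (CommRingCat.of K)) (snd G E).left _
      (inferInstanceAs (JacobsonSpace (PrimeSpectrum K)))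
  let z₀ : E.left := IsLocalRing.closedPoint K
  let cp : (E ⟶ G) → (G ⊗ E).left := fun g => (pt g).left z₀
  have hrat : ∀ x : (G ⊗ E).left, IsClosed ({x} : Set (G ⊗ E).left) → ∃ g, cp g = x := fun x hx => by
    haveI : LocallyOfFiniteType ((snd G E).left : (G ⊗ E).left ⟶ Spec (CommRingCat.of K)) := inferInstance
    obtain ⟨σ, hσ, hσx⟩ := W7OnePole.exists_section_of_closed
      ((snd G E).left : (G ⊗ E).left ⟶ Spec (CommRingCat.of K)) hx
    let σ' : E ⟶ (G ⊗ E) := Over.homMk σ (by
      rw [← Over.w (snd G E)]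
      exact (reassoc_of% hσ) E.hom)
    refine ⟨σ' ≫ fst G E, ?_⟩
    have : pt (σ' ≫ fst G E) = σ' := by
      apply CartesianMonoidalCategory.hom_ext
      · simp [pt]
      · simp only [pt, lift_snd]
        exact Over.OverMorphism.ext hσ.symm
    show (pt _).left z₀ = x
    rw [this]
    exact hσx _
  -- a nonempty open subscheme of the base change
  obtain ⟨M, f, hf, -, hne⟩ := SpQS.exists_schematic_open hX hdec isOpen_univ
    ⟨Points.ofPt ((yon B).map (1 : Over.mk (𝟙 B) ⟶ G) ≫ π) (IsLocalRing.closedPoint k), trivial⟩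
  have sqM := isPullback_bc_of_mono f K
  let jM : bc ((yon B).obj M) K ⟶ bc X K := Limits.prod.map f (𝟙 _)
  have hjM : RepWith @IsOpenImmersion jM := repWith_baseChange sqM.flip hf
  obtain ⟨V, ⟨θ⟩⟩ := SpDesc.isScheme_of_representable (f := (Limits.prod.fst : bc ((yon B).obj M) K ⟶ (yon B).obj M))
    (repWith_fst @IsAffineHom _ K (inferInstanceAs (IsAffineHom (Spec.map _)))).1
  let gM : (yon B).obj V ⟶ bc X K := θ.hom ≫ jM
  have hgM : RepWith @IsOpenImmersion gM := (repWith_iso_comp_iff θ.hom _).2 hjM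
  have hgne : ∃ y, y ∈ Set.range (Points.map gM) := by
    obtain ⟨m, ⟨m₀, rfl⟩⟩ := hne
    obtain ⟨w, hw⟩ := isSurjectiveMor_of_repWith (repWith_fst_surjective (X := (yon B).obj M) K) m₀
    refine ⟨Points.map jM w, Points.map θ.inv w, ?_⟩
    rw [← Points.map_comp, Iso.inv_hom_id_assoc]
  choose O fO sqO using fun g => SchImg.exists_open_pullback
    (show RepWith @IsOpenImmersion (gM ≫ τ g) from
      haveI := hτiso g; (repWith_comp_iso_iff gM (τ g)).2 hgM) πK
  have hO : ∀ x : (G ⊗ E).left, ∃ g, x ∈ O g := by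
    by_contra hcon
    push_neg at hcon
    obtain ⟨x, hx⟩ := hcon
    obtain ⟨Ov, fOv, sqOv⟩ := SchImg.exists_open_pullback hgM πK
    have hOv : (Ov : Set (G ⊗ E).left).Nonempty := by
      obtain ⟨y, hy⟩ := hgne
      obtain ⟨p, rfl⟩ := hKs y
      obtain ⟨p, rfl⟩ := (Points.schemeEquiv (G ⊗ E)).surjective p
      refine ⟨p, (SchImg.mem_open_iff sqOv p).2 ?_⟩
      rw [Points.ofPt_eq_map_ofScheme]
      exact hy
    obtain ⟨v, hv, hvc⟩ := nonempty_inter_closedPoints hOv Ov.2.isLocallyClosed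
    obtain ⟨gv, rfl⟩ := hrat v hvc
    obtain ⟨c, hc, hcc⟩ := nonempty_inter_closedPoints (Z := (⋃ g, (O g : Set (G ⊗ E).left))ᶜ)
      ⟨x, fun h => by obtain ⟨g, hg⟩ := Set.mem_iUnion.1 h; exact hx g hg⟩
      (isOpen_iUnion fun g => (O g).2).isClosed_compl.isLocallyClosed
    obtain ⟨gc, rfl⟩ := hrat c hcc
    refine hc (Set.mem_iUnion.2 ⟨gv⁻¹ * gc, (SchImg.mem_open_iff (sqO _) _).2 ?_⟩)
    obtain ⟨w, hw⟩ := (SchImg.mem_open_iff sqOv _).1 hv
    refine ⟨w, ?_⟩
    rw [Points.map_comp, hw, Points.map_ofPt, hτ, ofPt_comp]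
    congr 1
    show (ρ (gv⁻¹ * gc)).left ((pt gv).left z₀) = (pt gc).left z₀
    rw [← Scheme.Hom.comp_apply, ← Over.comp_left, hρpt, mul_inv_cancel_left]
  obtain ⟨T, ⟨e'⟩⟩ := exists_iso_yon_of_open_cover hbc (fun _ : (E ⟶ G) => V) (fun g => gM ≫ τ g)
    (fun g => haveI := hτiso g; (repWith_comp_iso_iff gM (τ g)).2 hgM) fun y => by
      obtain ⟨p, rfl⟩ := hKs y
      obtain ⟨p, rfl⟩ := (Points.schemeEquiv (G ⊗ E)).surjective p
      obtain ⟨g, hg⟩ := hO p
      obtain ⟨w, hw⟩ := (SchImg.mem_open_iff (sqO g) p).1 hg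
      exact ⟨g, w, by rw [hw, Points.ofPt_eq_map_ofScheme]; rfl⟩
  let e := e'.symm
  obtain ⟨q, hq⟩ := exists_map_eq (e.hom ≫ Limits.prod.snd)
  obtain ⟨p, hp⟩ := (yon B).map_surjective (πK ≫ e.inv)
  have comm : 𝟙 ((yon B).obj (G ⊗ E)) ≫ πK = (yon B).map p ≫ e.hom := by
    rw [hp, Category.assoc, Iso.inv_hom_id, Category.comp_id, Category.id_comp]
  have he : RepWith @Etale e.hom := repWith_of_isIso _
  haveI : Flat p.left := hKf (𝟙 _) e.hom p (repWith_id _ (G ⊗ E)) he comm
  haveI : LocallyOfFinitePresentation p.left := hKp (𝟙 _) e.hom p (repWith_id _ (G ⊗ E)) he comm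
  haveI : Surjective p.left := ⟨fun t => by
    obtain ⟨x, hx⟩ := hKs (Points.map e.hom (Points.ofScheme T t))
    obtain ⟨x, rfl⟩ := (Points.schemeEquiv (G ⊗ E)).surjective x
    refine ⟨x, (Points.schemeEquiv T).injective ?_⟩
    show Points.ofScheme T (p.left x) = Points.ofScheme T t
    rw [← ofScheme_map, hp, Points.ofPt_eq_map_ofScheme, Points.map_comp]
    rw [show Points.map πK (Points.ofScheme (G ⊗ E) x) = Points.map e.hom (Points.ofScheme T t) from hx,
      ← Points.map_comp, Iso.hom_inv_id, Points.map_id]⟩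
  have hpq : p ≫ q = snd G E := (yon B).map_injective (by
    rw [Functor.map_comp, hp, hq, Category.assoc, Iso.inv_hom_id_assoc, Limits.prod.lift_snd])
  have hτT : ∀ g, ∃ t : T ⟶ T, IsIso t ∧ p ≫ t = ρ g ≫ p := fun g => by
    haveI := hτiso g
    obtain ⟨t, ht⟩ := (yon B).map_surjective (e.hom ≫ τ g ≫ e.inv)
    haveI : IsIso ((yon B).map t) := ht ▸ inferInstance
    refine ⟨t, isIso_of_reflects_iso t (yon B), (yon B).map_injective ?_⟩
    rw [Functor.map_comp, hp, ht, Category.assoc, Iso.inv_hom_id_assoc, reassoc_of% (hτ g),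
      Functor.map_comp, hp]
  choose τT hτTi hτT using hτT
  haveI : LocallyOfFiniteType q.left := by
    haveI : LocallyOfFiniteType (p.left ≫ q.left) := by
      rw [← Over.comp_left, hpq]; infer_instance
    exact FppfSource.lft p.left q.left
  haveI : JacobsonSpace T.left :=
    @LocallyOfFiniteType.jacobsonSpace _ (Spec (CommRingCat.of K)) q.left _
      (inferInstanceAs (JacobsonSpace (PrimeSpectrum K)))
  refine exists_iso_yon_of_enough_affines hX hdec pX hpX K e q hq fun s hsrat => ?_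
  have hlift : ∀ t ∈ s, ∃ g, p.left (cp g) = t := fun t ht => by
    obtain ⟨σ, hσ, hσt⟩ := hsrat t ht
    have htc : IsClosed ({t} : Set T.left) := by
      haveI : IsImmersion (σ ≫ q.left) := by rw [hσ]; infer_instance
      haveI : IsImmersion σ := IsImmersion.of_comp σ q.left
      have hr : Set.range σ = {t} := by
        ext y
        refine ⟨?_, fun h => ⟨_, hσt.trans (Set.mem_singleton_iff.1 h).symm⟩⟩
        rintro ⟨z, rfl⟩
        rw [Subsingleton.elim (α := PrimeSpectrum K) z (IsLocalRing.closedPoint K)]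
        exact hσt
      apply isClosed_singleton_of_isLocallyClosed_singleton
      rw [← hr]
      exact σ.isLocallyClosed_range
    obtain ⟨x, hx⟩ := p.left.surjective t
    obtain ⟨c, hc, hcc⟩ := nonempty_inter_closedPoints (Z := p.left ⁻¹' {t})
      ⟨x, hx⟩ (htc.preimage p.left.continuous).isLocallyClosed
    obtain ⟨g, rfl⟩ := hrat c hcc
    exact ⟨g, hc⟩
  choose gt hgt using hlift
  -- the neutral component
  let G' : Over (Spec (CommRingCat.of K)) := (Over.pullback E.hom).obj G
  letI : GrpObj G' := Functor.grpObjObj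
  have hconn : ∀ x : (G ⊗ E).left, connectedComponent x = irreducibleComponent x := fun x =>
    GrpComp.connectedComponent_eq (G := G') x
  haveI : IsLocallyNoetherian (G ⊗ E).left :=
    @LocallyOfFiniteType.isLocallyNoetherian _ (Spec (CommRingCat.of K)) (snd G E).left _ inferInstance
  haveI : LocallyConnectedSpace (G ⊗ E).left := LocNoethTop.locallyConnectedSpace fun x => by
    obtain ⟨U, hU, hxU, -⟩ := exists_isAffineOpen_mem_and_subset (X := (G ⊗ E).left) (x := x) (U := ⊤) trivial
    haveI : IsNoetherianRing Γ((G ⊗ E).left, U) := IsLocallyNoetherian.component_noetherian ⟨U, hU⟩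
    exact ⟨U, U.2.mem_nhds hxU, noetherianSpace_of_isAffineOpen U hU⟩
  let lam : (E ⟶ G) → ((G ⊗ E) ⟶ (G ⊗ E)) := fun g => lift ((snd G E ≫ g) * fst G E) (snd G E)
  have hlpt : ∀ g h, pt h ≫ lam g = pt (g * h) := fun g h => by
    apply CartesianMonoidalCategory.hom_ext <;> simp [pt, lam, MonObj.comp_mul]
  have hll : ∀ g h, lam g ≫ lam h = lam (h * g) := fun g h => by
    apply CartesianMonoidalCategory.hom_ext <;> simp [lam, MonObj.comp_mul, _root_.mul_assoc]
  have hl1 : lam 1 = 𝟙 (G ⊗ E) := by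
    apply CartesianMonoidalCategory.hom_ext <;> simp [lam, MonObj.comp_one]
  let C := connectedComponent (cp 1)
  let Ot : ↥s → T.left.Opens := fun t =>
    ⟨p.left '' ((lam (gt t.1 t.2)).left '' C), p.left.isOpenMap _ (by
      haveI : IsIso (lam (gt t.1 t.2)) :=
        ⟨lam (gt t.1 t.2)⁻¹, by rw [hll, inv_mul_cancel, hl1], by rw [hll, mul_inv_cancel, hl1]⟩
      exact (lam (gt t.1 t.2)).left.isOpenEmbedding.isOpenMap _ isOpen_connectedComponent)⟩
  obtain ⟨Va, hVa, hmeet⟩ := exists_affine_meeting Finset.univ Ot fun t _ =>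
    ⟨_, Set.mem_image_of_mem _ (Set.mem_image_of_mem _ mem_connectedComponent)⟩
  let A : ↥s → Set (G ⊗ E).left := fun t => C ∩ (lam (gt t.1 t.2) ≫ p).left ⁻¹' (Va : Set T.left)
  have hAo : ∀ t, IsOpen (A t) := fun t =>
    isOpen_connectedComponent.inter (Va.2.preimage (lam (gt t.1 t.2) ≫ p).left.continuous)
  have hAne : ∀ t, (A t).Nonempty := fun t => by
    obtain ⟨_, hz, _, ⟨c, hc, rfl⟩, rfl⟩ := hmeet t (Finset.mem_univ t)
    exact ⟨c, hc, hz⟩
  have hCirr : IsPreirreducible C := by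
    show IsPreirreducible (connectedComponent (cp 1))
    rw [hconn]
    exact isIrreducible_irreducibleComponent.2
  have hinter : ∀ u : Finset ↥s, (C ∩ ⋂ t ∈ u, A t).Nonempty := fun u => by
    induction u using Finset.induction with
    | empty => simpa using ⟨cp 1, mem_connectedComponent⟩
    | insert t u _ ih =>
      obtain ⟨z, hz, hz'⟩ := ih
      obtain ⟨w, hw1, hw2⟩ := hAne t
      obtain ⟨y, hy, hy1, hy2⟩ := hCirr (A t) (⋂ t ∈ u, A t) (hAo t) (isOpen_biInter_finset fun t _ => hAo t)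
        ⟨w, hw1, hw1, hw2⟩ ⟨z, hz, hz'⟩
      exact ⟨y, hy, by rw [Finset.set_biInter_insert]; exact ⟨hy1, hy2⟩⟩
  obtain ⟨c, hc, hcc⟩ := nonempty_inter_closedPoints (hinter Finset.univ)
    (isOpen_connectedComponent.inter (isOpen_biInter_finset fun t _ => hAo t)).isLocallyClosed
  obtain ⟨h, rfl⟩ := hrat c hcc
  haveI := hτTi h
  haveI : IsIso (τT h).left := ((Over.forget B).mapIso (asIso (τT h))).isIso_hom
  refine ⟨(τT h).left ⁻¹ᵁ Va, hVa.preimage_of_isIso _, fun t ht => ?_⟩
  have hmem := (Set.mem_iInter₂.1 hc.2 ⟨t, ht⟩ (Finset.mem_univ _)).2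
  show (τT h).left t ∈ Va
  rw [← hgt t ht]
  show (τT h).left (p.left ((pt (gt t ht)).left z₀)) ∈ Va
  rw [← Scheme.Hom.comp_apply, ← Scheme.Hom.comp_apply, ← Over.comp_left, hτT, ← Over.comp_left,
    reassoc_of% (hρpt (gt t ht) h)]
  have e2 : (pt h ≫ lam (gt t ht) ≫ p) = pt (gt t ht * h) ≫ p := by rw [reassoc_of% (hlpt (gt t ht) h)]
  rw [← e2, Over.comp_left, Scheme.Hom.comp_apply]
  exact hmem

end Groth.Agent.MonoFactor
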